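import Mathlib
import Cfsg.Agent.S0126

/-!
# Fixed point free primes of a quasisimple group

`IsFpf r G`: `G` has a nonzero complex representation in which no element of order `r` has a nonzero
fixed vector.  `May r S`: some finite perfect central extension of `S` has `IsFpf r`.
`Row S`: at most two odd primes `r` dividing `|S|` have `May r S`.
-/

set_option autoImplicit false
set_option linter.style.haveILetI false

namespace Cfsg.Agent.H80.Fpf

universe u v w

/-- `G` has a nonzero complex representation in which no element of order `r` has a nonzero fixed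
vector. -/
def IsFpf (r : ℕ) (G : Type u) [Group G] : Prop :=
  ∃ (n : ℕ) (ρ : Representation ℂ G (Fin n → ℂ)), 0 < n ∧
    ∀ g : G, orderOf g = r → ∀ v, ρ g v = v → v = 0

/-- A finite perfect central extension of `S`. -/
structure IsCover {G : Type u} [Group G] {S : Type v} [Group S] (π : G →* S) : Prop where
  surj : Function.Surjective π
  central : π.ker ≤ Subgroup.center G
  perf : commutator G = ⊤

/-- Some finite perfect central extension of `S` has `IsFpf r`. -/
def May (r : ℕ) (S : Type v) [Group S] : Prop :=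
  ∃ (G : Type) (_ : Group G) (_ : Finite G) (π : G →* S), IsCover π ∧ IsFpf r G

/-- At most two odd prime divisors `r` of `|S|` have `May r S`. -/
def Row (S : Type v) [Group S] : Prop :=
  ∃ a b : ℕ, ∀ r : ℕ, r.Prime → r ≠ 2 → r ∣ Nat.card S → May r S → r = a ∨ r = b

theorem IsFpf.of_equiv {G : Type u} [Group G] {H : Type v} [Group H] (e : G ≃* H) {r : ℕ}
    (h : IsFpf r G) : IsFpf r H := by
  obtain ⟨n, ρ, hn, hρ⟩ := h
  refine ⟨n, ρ.comp e.symm.toMonoidHom, hn, fun g hg v hv => hρ (e.symm g) ?_ v hv⟩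
  rw [← hg]
  exact e.symm.orderOf_eq g

theorem IsCover.comp_equiv {G : Type u} [Group G] {H : Type w} [Group H] {S : Type v} [Group S]
    {π : G →* S} (h : IsCover π) (e : H ≃* G) : IsCover (π.comp e.toMonoidHom) where
  surj := h.surj.comp e.surjective
  central := by
    intro z hz
    have h1 : e z ∈ Subgroup.center G := h.central hz
    rw [Subgroup.mem_center_iff] at h1 ⊢
    intro g
    apply e.injective
    rw [map_mul, map_mul, h1]
  perf := by
    have h1 := h.perf
    have h2 : (commutator H).map e.toMonoidHom = commutator G := by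
      rw [commutator_def, Subgroup.map_commutator, commutator_def]
      congr 1 <;>
      · rw [← MonoidHom.range_eq_map]
        exact MonoidHom.range_eq_top.2 e.surjective
    rw [h1] at h2
    rw [eq_top_iff]
    intro x _
    have h3 : e x ∈ (commutator H).map e.toMonoidHom := by rw [h2]; trivial
    obtain ⟨y, hy, hyx⟩ := h3
    rw [← e.injective hyx]
    exact hy

theorem IsCover.equiv_comp {G : Type u} [Group G] {H : Type w} [Group H] {S : Type v} [Group S]
    {π : G →* S} (h : IsCover π) (e : S ≃* H) : IsCover (e.toMonoidHom.comp π) where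
  surj := e.surjective.comp h.surj
  central := by
    intro z hz
    apply h.central
    rw [MonoidHom.mem_ker] at hz ⊢
    apply e.injective
    rw [map_one]
    exact hz
  perf := h.perf

/-- `May` from a cover in any universe. -/
theorem May.of_cover {G : Type u} [Group G] [Finite G] {S : Type v} [Group S] {π : G →* S}
    (h : IsCover π) {r : ℕ} (hF : IsFpf r G) : May r S := by
  haveI : Small.{0} G := inferInstance
  let E : Shrink.{0} G ≃* G := Shrink.mulEquiv
  haveI : Finite (Shrink.{0} G) := Finite.of_equiv G (equivShrink G)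
  exact ⟨Shrink.{0} G, inferInstance, inferInstance, _, h.comp_equiv E, hF.of_equiv E.symm⟩

theorem May.of_equiv {S : Type v} [Group S] {T : Type w} [Group T] (e : S ≃* T) {r : ℕ}
    (h : May r S) : May r T := by
  obtain ⟨G, _, _, π, hπ, hF⟩ := h
  exact ⟨G, _, ‹_›, _, hπ.equiv_comp e, hF⟩

theorem Row.of_equiv {S : Type v} [Group S] {T : Type w} [Group T] (e : S ≃* T)
    (h : Row S) : Row T := by
  obtain ⟨a, b, h⟩ := h
  refine ⟨a, b, fun r hr hr2 hd hM => h r hr hr2 ?_ (hM.of_equiv e.symm)⟩
  rw [Nat.card_congr e.toEquiv]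
  exact hd

/-- **Commuting elements of order `r`** in a group with `IsFpf r` generate the same subgroup. -/
theorem IsFpf.mem_zpowers {G : Type u} [Group G] {r : ℕ} (hr : r.Prime) (h : IsFpf r G) {a b : G}
    (hab : a * b = b * a) (ha : orderOf a = r) (hb : b ^ r = 1) : b ∈ Subgroup.zpowers a := by
  obtain ⟨n, ρ, hn, hρ⟩ := h
  by_contra hba
  haveI : Fact r.Prime := ⟨hr⟩
  haveI : NeZero n := ⟨hn.ne'⟩
  obtain ⟨μ, hμ⟩ := Module.End.exists_eigenvalue (ρ a)
  have hst : ∀ v ∈ Module.End.eigenspace (ρ a) μ, ρ b v ∈ Module.End.eigenspace (ρ a) μ := by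
    intro v hv
    rw [Module.End.mem_eigenspace_iff] at hv ⊢
    have h1 : ρ a (ρ b v) = ρ b (ρ a v) := by
      rw [← Module.End.mul_apply, ← map_mul, hab, map_mul, Module.End.mul_apply]
    rw [h1, hv, map_smul]
  haveI : Nontrivial (Module.End.eigenspace (ρ a) μ) := by
    rw [Submodule.nontrivial_iff_ne_bot]
    exact hμ
  obtain ⟨ν, hν⟩ := Module.End.exists_eigenvalue (LinearMap.restrict (ρ b) hst)
  obtain ⟨v, hv⟩ := hν.exists_hasEigenvector
  have hv0 : (v : Fin n → ℂ) ≠ 0 := fun h0 => hv.2 (Subtype.ext h0)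
  have hav : ρ a v = μ • (v : Fin n → ℂ) := Module.End.mem_eigenspace_iff.1 v.2
  have hbv : ρ b v = ν • (v : Fin n → ℂ) := by
    have := congrArg (fun w : Module.End.eigenspace (ρ a) μ => (w : Fin n → ℂ)) hv.apply_eq_smul
    exact this
  have hpow : ∀ (c : G) (γ : ℂ), ρ c v = γ • (v : Fin n → ℂ) → ∀ k : ℕ, ρ (c ^ k) v = γ ^ k • (v : Fin n → ℂ) := by
    intro c γ hc k
    induction k with
    | zero => simp
    | succ k ih => rw [pow_succ, map_mul, Module.End.mul_apply, hc, map_smul, ih, smul_smul, pow_succ, mul_comm]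
  have ha1 : a ^ r = 1 := by rw [← ha, pow_orderOf_eq_one]
  have hμr : μ ^ r = 1 := by
    have h1 := hpow a μ hav r
    rw [ha1, map_one] at h1
    have h2 : (1 : ℂ) • (v : Fin n → ℂ) = μ ^ r • (v : Fin n → ℂ) := by rw [one_smul]; exact h1
    exact (smul_left_injective ℂ hv0 h2).symm
  have hνr : ν ^ r = 1 := by
    have h1 := hpow b ν hbv r
    rw [hb, map_one] at h1
    have h2 : (1 : ℂ) • (v : Fin n → ℂ) = ν ^ r • (v : Fin n → ℂ) := by rw [one_smul]; exact h1
    exact (smul_left_injective ℂ hv0 h2).symm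
  have hμ1 : μ ≠ 1 := by
    rintro rfl
    apply hv0
    apply hρ a ha
    rw [hav, one_smul]
  haveI : NeZero r := ⟨hr.ne_zero⟩
  have hprim : IsPrimitiveRoot μ r := by
    have h1 : orderOf μ = r := orderOf_eq_prime hμr hμ1
    rw [← h1]
    exact IsPrimitiveRoot.orderOf μ
  obtain ⟨k, -, hk⟩ := hprim.eq_pow_of_pow_eq_one hνr
  -- `c = b * a ^ (-k)` fixes `v`
  have hcomm : Commute b (a ^ k) := (Commute.pow_right (show Commute b a from hab.symm) k)
  have hfix : ρ (b * (a ^ k)⁻¹) v = v := by
    have h1 : ρ (a ^ k) v = ν • (v : Fin n → ℂ) := by rw [hpow a μ hav k, hk]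
    have h2 : ρ b ((ρ (a ^ k)⁻¹) (v : Fin n → ℂ)) = v := by
      have h3 : ρ (a ^ k)⁻¹ (ρ (a ^ k) (v : Fin n → ℂ)) = v := by
        rw [← Module.End.mul_apply, ← map_mul, inv_mul_cancel, map_one]; rfl
      rw [h1, map_smul] at h3
      have h4 : ν • (ρ b (ρ (a ^ k)⁻¹ (v : Fin n → ℂ))) = ν • (v : Fin n → ℂ) := by
        rw [← map_smul, h3, hbv]
      have hν0 : ν ≠ 0 := by
        rintro rfl
        rw [zero_pow hr.ne_zero] at hνr
        exact zero_ne_one hνr
      exact smul_right_injective _ hν0 h4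
    rw [map_mul, Module.End.mul_apply, h2]
  apply hv0
  apply hρ (b * (a ^ k)⁻¹) _ _ hfix
  apply orderOf_eq_prime
  · have h5 : Commute b (a ^ k)⁻¹ := hcomm.inv_right
    rw [h5.mul_pow, hb, inv_pow, ← pow_mul, mul_comm k r, pow_mul, ha1, one_pow, inv_one, one_mul]
  · intro h6
    apply hba
    rw [mul_inv_eq_one] at h6
    rw [h6]
    exact Subgroup.pow_mem _ (Subgroup.mem_zpowers a) k

/-- An `r`-subgroup of a group with `IsFpf r` is cyclic. -/
theorem IsFpf.isCyclic {G : Type u} [Group G] [Finite G] {r : ℕ} (hr : r.Prime) (hr2 : r ≠ 2) (h : IsFpf r G)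
    (P : Subgroup G) (hP : IsPGroup r P) : IsCyclic P := by
  haveI : Fact r.Prime := ⟨hr⟩
  by_contra hnc
  obtain ⟨A, -, ⟨hA, hexp⟩, hc⟩ := Cfsg.Agent.S0126.result hr2 hP hnc
  haveI : Nontrivial A := by
    apply Finite.one_lt_card_iff_nontrivial.1
    rw [hc]
    exact Nat.one_lt_pow two_ne_zero hr.one_lt
  obtain ⟨a, ha⟩ := exists_ne (1 : A)
  have hao : orderOf (a : P) = r := by
    apply orderOf_eq_prime (hexp a a.2)
    intro h1
    exact ha (Subtype.ext h1)
  have hao' : orderOf ((a : P) : G) = r := by rw [Subgroup.orderOf_coe, hao]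
  have hle : ∀ b : A, (b : P) ∈ Subgroup.zpowers (a : P) := by
    intro b
    have hcm : (a : P) * (b : P) = b * a := congrArg (fun x : A => (x : P)) (hA.is_comm.comm a b)
    have h1 := h.mem_zpowers hr (a := ((a : P) : G)) (b := ((b : P) : G))
      (congrArg (fun x : P => (x : G)) hcm) hao' (congrArg (fun x : P => (x : G)) (hexp b b.2))
    obtain ⟨k, hk⟩ := h1
    exact ⟨k, Subtype.ext hk⟩
  have h2 : A ≤ Subgroup.zpowers (a : P) := fun b hb => hle ⟨b, hb⟩
  have h3 := Subgroup.card_le_of_le h2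
  rw [Nat.card_zpowers, hao, hc] at h3
  have := hr.one_lt
  nlinarith

open scoped IsMulCommutative in
/-- In a perfect group with `IsFpf r`, `r` odd, the centre has order prime to `r`. -/
theorem IsFpf.not_dvd_center {G : Type u} [Group G] [Finite G] {r : ℕ} (hr : r.Prime) (hr2 : r ≠ 2)
    (h : IsFpf r G) (hperf : commutator G = ⊤) : ¬ r ∣ Nat.card (Subgroup.center G) := by
  haveI : Fact r.Prime := ⟨hr⟩
  intro hd
  obtain ⟨z, hz⟩ := exists_prime_orderOf_dvd_card' r hd
  have hzo : orderOf (z : G) = r := by rw [Subgroup.orderOf_coe, hz]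
  let P : Sylow r G := default
  haveI : IsCyclic (P : Subgroup G) := h.isCyclic hr hr2 P P.isPGroup'
  have hcomm : ∀ a b : (P : Subgroup G), a * b = b * a := by
    letI := IsCyclic.commGroup (α := (P : Subgroup G))
    exact mul_comm
  haveI : IsMulCommutative (P : Subgroup G) := ⟨⟨hcomm⟩⟩
  -- the transfer into `P`
  let τ : G →* (P : Subgroup G) := MonoidHom.transfer (MonoidHom.id ((P : Subgroup G) : Subgroup G))
  have hτ : τ = 1 := by
    rw [← MonoidHom.ker_eq_top_iff, eq_top_iff, ← hperf]
    rw [commutator_def, Subgroup.commutator_le]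
    intro x _ y _
    rw [MonoidHom.mem_ker, map_commutatorElement, commutatorElement_eq_one_iff_mul_comm]
    exact hcomm _ _
  have hzc : ∀ g : G, g * z = z * g := Subgroup.mem_center_iff.1 z.2
  have h1 := MonoidHom.transfer_eq_pow (MonoidHom.id (P : Subgroup G)) (z : G) (by
    intro k g₀ _
    have h2 : g₀⁻¹ * ((z : G) ^ k * g₀) = (z : G) ^ k := by
      have h3 : Commute g₀ ((z : G) ^ k) := Commute.pow_right (hzc g₀) k
      rw [← h3.eq, inv_mul_cancel_left]
    rw [mul_assoc, h2])
  have h4 : τ (z : G) = 1 := by rw [hτ]; rfl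
  have h5 : (z : G) ^ (P : Subgroup G).index = 1 := by
    have := h1.symm.trans h4
    exact congrArg (fun x : (P : Subgroup G) => (x : G)) this
  have h6 : r ∣ (P : Subgroup G).index := by
    have h7 := orderOf_dvd_of_pow_eq_one h5
    rwa [hzo] at h7
  exact P.not_dvd_index h6

end Cfsg.Agent.H80.Fpf
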