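import Mathlib
import Cfsg.Agent.H80.Fpf.Def
import Cfsg.Agent.SignalizersComponents.NoFixedGen

/-!
# Criteria excluding `May r S`
-/

set_option autoImplicit false
set_option linter.style.haveILetI false

namespace Cfsg.Agent.H80.Fpf

universe u v w

section Cover

variable {G : Type u} [Group G] {S : Type v} [Group S] {π : G →* S}

/-- An element of order `r` lifts to one of order `r` if `r` does not divide the order of the
kernel. -/
theorem exists_lift (h : IsCover π) {r : ℕ} (hr : r.Prime) (hk : ¬ r ∣ Nat.card π.ker) {x : S}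
    (hx : orderOf x = r) : ∃ g : G, π g = x ∧ orderOf g = r := by
  obtain ⟨g, rfl⟩ := h.surj x
  have h1 : g ^ r ∈ π.ker := by
    rw [MonoidHom.mem_ker, map_pow, ← hx, pow_orderOf_eq_one]
  set m := Nat.card π.ker with hm
  have hcop : m.Coprime r := ((Nat.Prime.coprime_iff_not_dvd hr).2 hk).symm
  have h2 : (g ^ m) ^ r = 1 := by
    rw [← pow_mul, mul_comm, pow_mul]
    have h3 : (⟨g ^ r, h1⟩ : π.ker) ^ m = 1 := by rw [hm]; exact pow_card_eq_one'
    exact congrArg (fun z : π.ker => (z : G)) h3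
  obtain ⟨c, hc⟩ := Nat.exists_mul_mod_eq_one_of_coprime hcop hr.one_lt
  have h4 : π (g ^ (m * c)) = π g := by
    rw [map_pow]
    have h5 : m * c ≡ 1 [MOD orderOf (π g)] := by
      rw [hx, Nat.ModEq, hc.2, Nat.mod_eq_of_lt hr.one_lt]
    have h6 := pow_eq_pow_iff_modEq.2 h5
    rw [h6, pow_one]
  refine ⟨g ^ (m * c), h4, ?_⟩
  haveI : Fact r.Prime := ⟨hr⟩
  apply orderOf_eq_prime
  · rw [pow_mul, ← pow_mul, mul_comm c r, pow_mul, h2, one_pow]
  · intro h7
    rw [h7, map_one] at h4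
    rw [← h4, orderOf_one] at hx
    exact hr.one_lt.ne hx

/-- The kernel of a cover of a group with `IsFpf r` has order prime to `r`. -/
theorem IsFpf.not_dvd_ker [Finite G] (h : IsCover π) {r : ℕ} (hr : r.Prime) (hr2 : r ≠ 2) (hF : IsFpf r G) :
    ¬ r ∣ Nat.card π.ker := fun hd =>
  hF.not_dvd_center hr hr2 h.perf (hd.trans (Subgroup.card_dvd_of_le h.central))

end Cover

/-- `r`-subgroups of `S` are cyclic if `May r S`. -/
theorem May.isCyclic {S : Type v} [Group S] [Finite S] {r : ℕ} (hr : r.Prime) (hr2 : r ≠ 2)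
    (h : May r S) (P : Subgroup S) (hP : IsPGroup r P) : IsCyclic P := by
  haveI : Fact r.Prime := ⟨hr⟩
  obtain ⟨G, _, _, π, hπ, hF⟩ := h
  obtain ⟨Q, hQ⟩ := hP.exists_le_sylow
  let R : Sylow r G := default
  let Q' : Sylow r S := R.mapSurjective hπ.surj
  haveI : IsCyclic (R : Subgroup G) := hF.isCyclic hr hr2 R R.isPGroup'
  haveI : IsCyclic (Q' : Subgroup S) := by
    have h1 : (Q' : Subgroup S) = (R : Subgroup G).map π := Sylow.coe_mapSurjective _ _
    rw [h1]
    exact isCyclic_of_surjective (π.subgroupMap (R : Subgroup G)) (π.subgroupMap_surjective _)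
  obtain ⟨g, hg⟩ := MulAction.exists_smul_eq S Q' Q
  haveI : IsCyclic (Q : Subgroup S) := by
    rw [← hg]
    exact isCyclic_of_surjective _ (Q'.equivSMul g).surjective
  exact isCyclic_of_injective (Subgroup.inclusion hQ) (Subgroup.inclusion_injective hQ)

/-- Commuting elements of order `r` in `S` generate the same subgroup if `May r S`. -/
theorem May.mem_zpowers {S : Type v} [Group S] [Finite S] {r : ℕ} (hr : r.Prime) (hr2 : r ≠ 2)
    (h : May r S) {a b : S} (hab : a * b = b * a) (ha : orderOf a = r) (hb : b ^ r = 1) :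
    b ∈ Subgroup.zpowers a := by
  haveI : Fact r.Prime := ⟨hr⟩
  let A : Subgroup S := Subgroup.closure {a, b}
  haveI hA : IsMulCommutative A := Subgroup.isMulCommutative_closure (by
    intro x hx y hy
    simp only [Set.mem_insert_iff, Set.mem_singleton_iff] at hx hy
    rcases hx with rfl | rfl <;> rcases hy with rfl | rfl
    · rfl
    · exact hab
    · exact hab.symm
    · rfl)
  have haA : a ∈ A := Subgroup.subset_closure (by simp)
  have hbA : b ∈ A := Subgroup.subset_closure (by simp)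
  have hexp : ∀ x ∈ A, x ^ r = 1 := by
    intro x hx
    induction hx using Subgroup.closure_induction with
    | mem x hx =>
      simp only [Set.mem_insert_iff, Set.mem_singleton_iff] at hx
      rcases hx with rfl | rfl
      · rw [← ha, pow_orderOf_eq_one]
      · exact hb
    | one => exact one_pow r
    | mul x y hx hy h1 h2 =>
      have hc : Commute x y := congrArg (fun z : A => (z : S)) (hA.is_comm.comm ⟨x, hx⟩ ⟨y, hy⟩)
      rw [hc.mul_pow, h1, h2, one_mul]
    | inv x _ h1 => rw [inv_pow, h1, inv_one]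
  have hP : IsPGroup r A := fun x => ⟨1, Subtype.ext (by simpa using hexp x x.2)⟩
  haveI := h.isCyclic hr hr2 A hP
  have hcard : Nat.card A ≤ r := by
    obtain ⟨g, hg⟩ := IsCyclic.exists_generator (α := A)
    have h1 : orderOf g = Nat.card A := orderOf_eq_card_of_forall_mem_zpowers hg
    rw [← h1]
    apply orderOf_le_of_pow_eq_one hr.pos
    exact Subtype.ext (by simpa using hexp g g.2)
  have hle : Subgroup.zpowers a ≤ A := by rwa [Subgroup.zpowers_le]
  have heq : Subgroup.zpowers a = A := by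
    apply Subgroup.eq_of_le_of_card_ge hle
    rw [Nat.card_zpowers, ha]
    exact hcard
  rw [heq]
  exact hbA

/-- If `May r S` then `r ^ 2` divides the order of no abelian ... two distinct commuting subgroups
of order `r` cannot exist: `S` has no subgroup `C_r × C_r`. -/
theorem not_may_of_comm {S : Type v} [Group S] [Finite S] {r : ℕ} (hr : r.Prime) (hr2 : r ≠ 2)
    {a b : S} (hab : a * b = b * a) (ha : orderOf a = r) (hb : orderOf b = r)
    (hba : b ∉ Subgroup.zpowers a) : ¬ May r S := fun h =>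
  hba (h.mem_zpowers hr hr2 hab ha (by rw [← hb, pow_orderOf_eq_one]))

/-- An `l`-subgroup `K` of `S` normalised by `x` lifts to an `l`-subgroup normalised by any lift of
`x`, mapping onto `K`. -/
theorem exists_lift_group {G : Type u} [Group G] [Finite G] {S : Type v} [Group S] {π : G →* S}
    (h : IsCover π) {l : ℕ} (hl : l.Prime) (K : Subgroup S) (hK : IsPGroup l K) :
    ∃ L : Subgroup G, IsPGroup l L ∧ (∀ k ∈ K, ∃ g ∈ L, π g = k) ∧ (∀ g ∈ L, π g ∈ K) ∧
      ∀ x : G, (∀ k ∈ K, π x * k * (π x)⁻¹ ∈ K) → ∀ g ∈ L, x * g * x⁻¹ ∈ L := by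
  haveI : Fact l.Prime := ⟨hl⟩
  let M : Subgroup G := K.comap π
  have hMn : Group.IsNilpotent M := by
    let f : M →* K := (π.subgroupComap K)
    have hf : f.ker ≤ Subgroup.center M := by
      intro z hz
      rw [Subgroup.mem_center_iff]
      intro g
      apply Subtype.ext
      have h1 : (z : G) ∈ π.ker := by
        have := congrArg (fun k : K => (k : S)) ((MonoidHom.mem_ker).1 hz)
        exact this
      exact Subgroup.mem_center_iff.1 (h.central h1) g
    haveI : Finite K := Finite.of_surjective f (by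
      rintro ⟨k, hk⟩
      obtain ⟨g, rfl⟩ := h.surj k
      exact ⟨⟨g, hk⟩, rfl⟩)
    haveI : Group.IsNilpotent K := hK.isNilpotent
    exact Subgroup.isNilpotent_of_ker_le_center f hf
  let P : Sylow l M := default
  have hPn : (P : Subgroup M).Normal := by
    haveI := hMn
    infer_instance
  have hmem : ∀ g : M, (∃ a : ℕ, g ^ l ^ a = 1) → g ∈ (P : Subgroup M) := by
    rintro g ⟨a, ha⟩
    have h1 : IsPGroup l (Subgroup.zpowers g) := by
      rw [IsPGroup.iff_card]
      have h2 : orderOf g ∣ l ^ a := orderOf_dvd_of_pow_eq_one ha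
      obtain ⟨b, -, hb⟩ := (Nat.dvd_prime_pow hl).1 h2
      exact ⟨b, by rw [Nat.card_zpowers, hb]⟩
    obtain ⟨Q, hQ⟩ := h1.exists_le_sylow
    have h3 : Q = P := by
      haveI := Sylow.unique_of_normal P hPn
      exact Subsingleton.elim _ _
    rw [← h3]
    exact hQ (Subgroup.mem_zpowers g)
  refine ⟨(P : Subgroup M).map M.subtype, ?_, ?_, ?_, ?_⟩
  · exact P.isPGroup'.map _
  · intro k hk
    obtain ⟨g, rfl⟩ := h.surj k
    obtain ⟨a, ha⟩ := hK ⟨π g, hk⟩
    have ha' : (π g) ^ l ^ a = 1 := congrArg (fun k : K => (k : S)) ha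
    -- the `l`-part of `g`
    obtain ⟨n, hn⟩ : ∃ n, n = orderOf g := ⟨_, rfl⟩
    have hn0 : n ≠ 0 := by rw [hn]; exact (orderOf_pos g).ne'
    obtain ⟨b, m, hlm, hm⟩ := Nat.exists_eq_pow_mul_and_not_dvd hn0 l hl.ne_one
    have hcop : (l ^ a).Coprime m := Nat.Coprime.pow_left _ ((Nat.Prime.coprime_iff_not_dvd hl).2 hlm)
    obtain ⟨c, hc1, hc2⟩ := Nat.chineseRemainder hcop 1 0
    refine ⟨g ^ c, ?_, ?_⟩
    · refine ⟨⟨g ^ c, ?_⟩, hmem _ ⟨b, ?_⟩, rfl⟩
      · show π (g ^ c) ∈ K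
        rw [map_pow]
        exact K.pow_mem hk c
      · apply Subtype.ext
        show (g ^ c) ^ l ^ b = 1
        obtain ⟨d, rfl⟩ := (Nat.modEq_zero_iff_dvd).1 hc2
        rw [← pow_mul, ← orderOf_dvd_iff_pow_eq_one, ← hn, hm]
        exact ⟨d, by ring⟩
    · rw [map_pow]
      have h6 : c ≡ 1 [MOD orderOf (π g)] := hc1.of_dvd (orderOf_dvd_of_pow_eq_one ha')
      rw [pow_eq_pow_iff_modEq.2 h6, pow_one]
  · rintro _ ⟨g, -, rfl⟩
    exact g.2
  · rintro x hx _ ⟨g, hg, rfl⟩
    refine ⟨⟨x * g * x⁻¹, ?_⟩, hmem _ ?_, rfl⟩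
    · show π (x * g * x⁻¹) ∈ K
      rw [map_mul, map_mul, map_inv]
      exact hx _ g.2
    · obtain ⟨a, ha⟩ := P.isPGroup' ⟨g, hg⟩
      refine ⟨a, ?_⟩
      apply Subtype.ext
      show (x * g * x⁻¹) ^ l ^ a = 1
      have h1 : (g : G) ^ l ^ a = 1 :=
        congrArg (fun k : (P : Subgroup M) => ((k : M) : G)) ha
      rw [conj_pow, h1, mul_one, mul_inv_cancel]

/-- A prime `l` and a prime `r` such that no power of `l` is divisible by `(r - 1) ^ 2`. -/
def Good (l r : ℕ) : Prop := ∀ a : ℕ, ¬ (r - 1) ^ 2 ∣ l ^ a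

theorem good_of_odd {l r : ℕ} (hl : l.Prime) (hl2 : l ≠ 2) (hr : r.Prime) (hr2 : r ≠ 2) : Good l r := by
  intro a h
  have h1 : 2 ∣ r - 1 := by
    have := hr.eq_two_or_odd.resolve_left hr2
    omega
  have h2 : 2 ∣ l ^ a := (h1.trans (dvd_pow_self _ two_ne_zero)).trans h
  have h3 := Nat.prime_two.dvd_of_dvd_pow h2
  rcases (Nat.dvd_prime hl).1 h3 with h4 | h4
  · omega
  · exact hl2 h4.symm

theorem good_of_not_fermat {l r : ℕ} (hl : l.Prime) (hr : r.Prime) (hr2 : r ≠ 2)
    (hF : ∀ m : ℕ, r ≠ 2 ^ m + 1) : Good l r := by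
  by_cases hl2 : l = 2
  · subst hl2
    intro a h
    have h1 : r - 1 ∣ 2 ^ a := (dvd_pow_self _ two_ne_zero).trans h
    obtain ⟨m, -, hm⟩ := (Nat.dvd_prime_pow Nat.prime_two).1 h1
    exact hF m (by have := hr.two_le; omega)
  · exact good_of_odd hl hl2 hr hr2

/-- An odd prime divisor of `r - 1` makes `(l, r)` good for `l = 2`. -/
theorem good_two_of_dvd {r q : ℕ} (hq : q.Prime) (hq2 : q ≠ 2) (h : q ∣ r - 1) : Good 2 r := by
  intro a h1
  have h2 : q ∣ 2 ^ a := (h.trans (dvd_pow_self _ two_ne_zero)).trans h1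
  have h3 := hq.dvd_of_dvd_pow h2
  exact hq2 ((Nat.prime_dvd_prime_iff_eq hq Nat.prime_two).1 h3)

/-- **Action on `l`-subgroups.** If `May r S` there is a normal subgroup `N` of `S` of order prime
to `r` such that each element `x` of order `r` centralises modulo `N` each `l`-subgroup `K` it
normalises, for `Good l r`. -/
theorem May.exists_comm {S : Type v} [Group S] [Finite S] {r : ℕ} (hr : r.Prime) (hr2 : r ≠ 2)
    (h : May r S) : ∃ N : Subgroup S, N.Normal ∧ ¬ r ∣ Nat.card N ∧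
      ∀ (l : ℕ) (K : Subgroup S) (x : S), l.Prime → l ≠ r → Good l r → IsPGroup l K →
        orderOf x = r → (∀ k ∈ K, x * k * x⁻¹ ∈ K) → ∀ k ∈ K, x * k * x⁻¹ * k⁻¹ ∈ N := by
  obtain ⟨G, _, _, π, hπ, hF⟩ := h
  have hker := hF.not_dvd_ker hπ hr hr2
  obtain ⟨n, ρ, hn, hρ⟩ := hF
  haveI : Fact r.Prime := ⟨hr⟩
  let R : Subgroup G := MonoidHom.ker ρ
  have hkerρ : ¬ r ∣ Nat.card R := by
    intro hd
    obtain ⟨z, hz⟩ := exists_prime_orderOf_dvd_card' r hd
    have hz' : orderOf (z : G) = r := by rw [Subgroup.orderOf_coe, hz]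
    have h1 : ∀ v : Fin n → ℂ, v = 0 := by
      intro v
      apply hρ z hz' v
      have h2 : ρ z = 1 := (MonoidHom.mem_ker).1 z.2
      rw [h2, Module.End.one_apply]
    haveI : Nonempty (Fin n) := ⟨⟨0, hn⟩⟩
    obtain ⟨v, hv⟩ := exists_ne (0 : Fin n → ℂ)
    exact hv (h1 v)
  refine ⟨R.map π, ?_, ?_, ?_⟩
  · exact Subgroup.Normal.map (MonoidHom.normal_ker ρ) π hπ.surj
  · exact fun hd => hkerρ (hd.trans (Subgroup.card_map_dvd R π))
  · intro l K x hl hlr hgood hK hx hxK k hk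
    obtain ⟨g, rfl, hg⟩ := exists_lift hπ hr hker hx
    obtain ⟨L, hL, hL1, -, hL2⟩ := exists_lift_group hπ hl K hK
    obtain ⟨y, hy, rfl⟩ := hL1 k hk
    haveI : Fact l.Prime := ⟨hl⟩
    obtain ⟨a, ha⟩ := (IsPGroup.iff_card).1 hL
    haveI : Group.IsNilpotent L := hL.isNilpotent
    have h1 := Cfsg.Agent.SignalizersComponents.NoFixedGen.comm_of_no_fixed ρ L g hr hr2
      (by rw [← hg, pow_orderOf_eq_one]) (hL2 g hxK) inferInstance (by rw [ha]; exact hgood a)
      (by
        rw [ha]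
        intro hd
        exact hlr ((Nat.prime_dvd_prime_iff_eq hr hl).1 (hr.dvd_of_dvd_pow hd)).symm)
      (by rw [ha]; exact_mod_cast pow_ne_zero _ hl.ne_zero)
      (by exact_mod_cast hr.ne_zero) (hρ g hg) y hy
    refine ⟨g * y * g⁻¹ * y⁻¹, ?_, by simp only [map_mul, map_inv]⟩
    apply (MonoidHom.mem_ker).2
    have h2 : g * y * g⁻¹ * y⁻¹ = (g * y) * (y * g)⁻¹ := by group
    rw [h2, map_mul, h1, ← map_mul, mul_inv_cancel, map_one]

/-- The same for a simple group `S`. -/
theorem May.comm {S : Type v} [Group S] [Finite S] [IsSimpleGroup S] {r : ℕ} (hr : r.Prime) (hr2 : r ≠ 2)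
    (h : May r S) {l : ℕ} (hl : l.Prime) (hlr : l ≠ r) (hgood : Good l r) {K : Subgroup S}
    (hK : IsPGroup l K) {x : S} (hx : orderOf x = r) (hxK : ∀ k ∈ K, x * k * x⁻¹ ∈ K) :
    ∀ k ∈ K, x * k = k * x := by
  obtain ⟨N, hN, hrN, hc⟩ := h.exists_comm hr hr2
  have hN1 : N = ⊥ := by
    rcases hN.eq_bot_or_eq_top with h1 | h1
    · exact h1
    · exfalso
      apply hrN
      rw [h1, Subgroup.card_top, ← hx]
      exact orderOf_dvd_natCard x
  intro k hk
  have h1 := hc l K x hl hlr hgood hK hx hxK k hk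
  rw [hN1, Subgroup.mem_bot] at h1
  rw [mul_inv_eq_one, mul_inv_eq_iff_eq_mul] at h1
  exact h1

/-- **Criterion**: an element of order `r` normalising but not centralising an `l`-subgroup. -/
theorem not_may_of_act {S : Type v} [Group S] [Finite S] [IsSimpleGroup S] {r l : ℕ} (hr : r.Prime) (hr2 : r ≠ 2)
    (hl : l.Prime) (hlr : l ≠ r) (hgood : Good l r) {K : Subgroup S}
    (hK : IsPGroup l K) {x : S} (hx : orderOf x = r) (hxK : ∀ k ∈ K, x * k * x⁻¹ ∈ K)
    {k : S} (hk : k ∈ K) (hne : x * k ≠ k * x) : ¬ May r S :=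
  fun h => hne (h.comm hr hr2 hl hlr hgood hK hx hxK k hk)

/-- **Criterion**: a subgroup of order `l` and an element of order `r` normalising but not
centralising it, `l` odd. -/
theorem not_may_of_frob {S : Type v} [Group S] [Finite S] [IsSimpleGroup S] {r l : ℕ} (hr : r.Prime) (hr2 : r ≠ 2)
    (hl : l.Prime) (hlr : l ≠ r) (hl2 : l ≠ 2) {x y : S} (hx : orderOf x = r) (hy : orderOf y = l)
    {a : ℕ} (hxy : x * y * x⁻¹ = y ^ a) (hne : x * y ≠ y * x) : ¬ May r S := by
  haveI : Fact l.Prime := ⟨hl⟩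
  apply not_may_of_act (K := Subgroup.zpowers y) hr hr2 hl hlr (good_of_odd hl hl2 hr hr2) _ hx _
    (Subgroup.mem_zpowers y) hne
  · rw [IsPGroup.iff_card]
    exact ⟨1, by rw [Nat.card_zpowers, hy, pow_one]⟩
  · intro k hk
    obtain ⟨c, rfl⟩ := Subgroup.mem_zpowers_iff.1 hk
    rw [← conj_zpow, hxy]
    exact Subgroup.zpow_mem _ (Subgroup.pow_mem _ (Subgroup.mem_zpowers y) a) c

end Cfsg.Agent.H80.Fpf
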