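import Mathlib
import Cfsg.Agent.H80.Fpf.Num

/-!
# Restriction to perfect subgroups, central quotients, Schur multipliers
-/

set_option autoImplicit false
set_option linter.style.haveILetI false

namespace Cfsg.Agent.H80.Fpf

universe u v w

open scoped commutatorElement

/-- The image of the derived subgroup. -/
theorem map_commutator_of_surj {G : Type u} [Group G] {H : Type v} [Group H] {f : G →* H}
    (hf : Function.Surjective f) : (commutator G).map f = commutator H := by
  rw [commutator_def, Subgroup.map_commutator, commutator_def]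
  congr 1 <;>
  · rw [← MonoidHom.range_eq_map]
    exact MonoidHom.range_eq_top.2 hf

/-- The derived subgroup of a central extension of a perfect group is perfect. -/
theorem perf_commutator {M : Type u} [Group M] {H : Type v} [Group H] {f : M →* H}
    (hf : Function.Surjective f) (hc : f.ker ≤ Subgroup.center M) (hH : commutator H = ⊤) :
    commutator (commutator M) = ⊤ ∧ (commutator M).map f = ⊤ := by
  have h1 : (commutator M).map f = ⊤ := by rw [map_commutator_of_surj hf, hH]
  refine ⟨?_, h1⟩
  -- every element of `M` is a product of an element of `M'` and a central one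
  have hdec : ∀ m : M, ∃ a ∈ commutator M, ∃ z ∈ Subgroup.center M, m = a * z := by
    intro m
    have h2 : f m ∈ (commutator M).map f := by rw [h1]; trivial
    obtain ⟨a, ha, ham⟩ := h2
    refine ⟨a, ha, a⁻¹ * m, hc ?_, by group⟩
    rw [MonoidHom.mem_ker, map_mul, map_inv, ham, inv_mul_cancel]
  have hle : commutator M ≤ (commutator (commutator M)).map (commutator M).subtype := by
    conv_lhs => rw [commutator_def]
    rw [Subgroup.commutator_le]
    intro x _ y _
    obtain ⟨a, ha, z, hz, rfl⟩ := hdec x
    obtain ⟨b, hb, w, hw, rfl⟩ := hdec y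
    have h3 : ⁅a * z, b * w⁆ = ⁅a, b⁆ := by
      rw [commutatorElement_def, commutatorElement_def]
      have hz' := Subgroup.mem_center_iff.1 hz
      have hw' := Subgroup.mem_center_iff.1 hw
      have e1 : a * z * (b * w) = a * b * (z * w) := by
        calc a * z * (b * w) = a * (z * b) * w := by group
          _ = a * (b * z) * w := by rw [hz' b]
          _ = a * b * (z * w) := by group
      have e2 : b * w * (a * z) = b * a * (z * w) := by
        calc b * w * (a * z) = b * (w * a) * z := by group
          _ = b * (a * w) * z := by rw [hw' a]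
          _ = b * a * (w * z) := by group
          _ = b * a * (z * w) := by rw [hz' w]
      have e3 : a * z * (b * w) * (a * z)⁻¹ * (b * w)⁻¹ = (a * z * (b * w)) * (b * w * (a * z))⁻¹ := by group
      rw [e3, e1, e2]; group
    rw [h3]
    refine ⟨⁅(⟨a, ha⟩ : commutator M), (⟨b, hb⟩ : commutator M)⁆, ?_, rfl⟩
    exact Subgroup.commutator_mem_commutator (Subgroup.mem_top _) (Subgroup.mem_top _)
  rw [eq_top_iff]
  intro x _
  obtain ⟨y, hy, hyx⟩ := hle x.2
  have : y = x := Subtype.ext hyx
  rw [← this]
  exact hy

/-- A cover of `S` restricts to a cover of a perfect subgroup. -/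
theorem IsCover.restrict {G : Type u} [Group G] {S : Type v} [Group S] {π : G →* S} (h : IsCover π)
    (H : Subgroup S) (hH : commutator H = ⊤) :
    ∃ (L : Subgroup G) (f : L →* H), IsCover f ∧ ∀ x : L, (f x : S) = π x := by
  let M : Subgroup G := H.comap π
  let f : M →* H := π.subgroupComap H
  have hf : Function.Surjective f := by
    rintro ⟨k, hk⟩
    obtain ⟨g, rfl⟩ := h.surj k
    exact ⟨⟨g, hk⟩, rfl⟩
  have hc : f.ker ≤ Subgroup.center M := by
    intro z hz
    rw [Subgroup.mem_center_iff]
    intro g
    apply Subtype.ext
    have h1 : (z : G) ∈ π.ker := congrArg (fun k : H => (k : S)) ((MonoidHom.mem_ker).1 hz)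
    exact Subgroup.mem_center_iff.1 (h.central h1) g
  obtain ⟨h1, h2⟩ := perf_commutator hf hc hH
  let L : Subgroup G := (commutator M).map M.subtype
  let e : commutator M ≃* L := (commutator M).equivMapOfInjective M.subtype M.subtype_injective
  have he : ∀ x : L, (((e.symm x : commutator M) : M) : G) = x := by
    intro x
    have h3 := Subgroup.coe_equivMapOfInjective_apply (commutator M) M.subtype M.subtype_injective (e.symm x)
    have h4 : e (e.symm x) = x := e.apply_symm_apply x
    have h5 : (e (e.symm x) : G) = M.subtype (e.symm x : commutator M) := h3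
    rw [h4] at h5
    exact h5.symm
  let g : commutator M →* H := f.comp (commutator M).subtype
  have hg : IsCover g := by
    refine ⟨?_, ?_, h1⟩
    · intro k
      have h3 : k ∈ (commutator M).map f := by rw [h2]; trivial
      obtain ⟨m, hm, rfl⟩ := h3
      exact ⟨⟨m, hm⟩, rfl⟩
    · intro z hz
      rw [Subgroup.mem_center_iff]
      intro y
      apply Subtype.ext
      have h3 : (z : M) ∈ f.ker := (MonoidHom.mem_ker).1 hz
      exact Subgroup.mem_center_iff.1 (hc h3) y
  refine ⟨L, g.comp e.symm.toMonoidHom, hg.comp_equiv e.symm, fun x => ?_⟩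
  show (f (e.symm x : commutator M) : S) = π x
  have h3 : (f (e.symm x : commutator M) : S) = π (((e.symm x : commutator M) : M) : G) := rfl
  rw [h3, he]

theorem IsFpf.subgroup {G : Type u} [Group G] {r : ℕ} (h : IsFpf r G) (L : Subgroup G) : IsFpf r L := by
  obtain ⟨n, ρ, hn, hρ⟩ := h
  exact ⟨n, ρ.comp L.subtype, hn, fun g hg v hv => hρ g (by rw [Subgroup.orderOf_coe, hg]) v hv⟩

/-- **Restriction to a perfect subgroup.** -/
theorem May.subgroup {S : Type v} [Group S] {r : ℕ} (h : May r S) (H : Subgroup S)
    (hH : commutator H = ⊤) : May r H := by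
  obtain ⟨G, _, _, π, hπ, hF⟩ := h
  obtain ⟨L, f, hf, -⟩ := hπ.restrict H hH
  exact May.of_cover hf (hF.subgroup L)

/-- The composite of two central extensions of perfect groups. -/
theorem IsCover.comp {G : Type u} [Group G] {H : Type v} [Group H] {T : Type w} [Group T]
    {π : G →* H} (h : IsCover π) {g : H →* T} (hg : Function.Surjective g) (hc : g.ker ≤ Subgroup.center H) :
    IsCover (g.comp π) where
  surj := hg.comp h.surj
  perf := h.perf
  central := by
    intro z hz
    have hz1 : π z ∈ Subgroup.center H := hc hz
    -- `x ↦ [z, x]` is a homomorphism into the centre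
    have hker : ∀ x : G, ⁅z, x⁆ ∈ π.ker := by
      intro x
      rw [MonoidHom.mem_ker, map_commutatorElement, commutatorElement_eq_one_iff_mul_comm]
      exact (Subgroup.mem_center_iff.1 hz1 (π x)).symm
    have hcen : ∀ x : G, ⁅z, x⁆ ∈ Subgroup.center G := fun x => h.central (hker x)
    let φ : G →* Subgroup.center G :=
      { toFun := fun x => ⟨⁅z, x⁆, hcen x⟩
        map_one' := by
          apply Subtype.ext
          show ⁅z, 1⁆ = 1
          rw [commutatorElement_one_right]
        map_mul' := by
          intro x y
          apply Subtype.ext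
          show ⁅z, x * y⁆ = ⁅z, x⁆ * ⁅z, y⁆
          have h1 : ⁅z, x * y⁆ = ⁅z, x⁆ * (x * ⁅z, y⁆ * x⁻¹) := by
            simp only [commutatorElement_def]; group
          rw [h1, (Subgroup.mem_center_iff.1 (hcen y) x), mul_inv_cancel_right] }
    have hφ : ∀ x, φ x = 1 := by
      have h1 : φ.ker = ⊤ := by
        rw [eq_top_iff, ← h.perf, commutator_def, Subgroup.commutator_le]
        intro x _ y _
        rw [MonoidHom.mem_ker, map_commutatorElement, commutatorElement_eq_one_iff_mul_comm]
        apply Subtype.ext
        exact (Subgroup.mem_center_iff.1 (φ x).2 (φ y)).symm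
      intro x
      have : x ∈ φ.ker := by rw [h1]; trivial
      exact (MonoidHom.mem_ker).1 this
    rw [Subgroup.mem_center_iff]
    intro x
    have h2 : ⁅z, x⁆ = 1 := congrArg (fun y : Subgroup.center G => (y : G)) (hφ x)
    exact (commutatorElement_eq_one_iff_mul_comm.1 h2).symm

/-- **Restriction along a homomorphism.**  `f : H → S` from a perfect group, `g : H → T` a central
surjection with `ker f ≤ ker g`. -/
theorem May.of_hom {S : Type v} [Group S] {r : ℕ} (h : May r S) {H : Type u} [Group H] {T : Type w} [Group T]
    (f : H →* S) (g : H →* T) (hg : Function.Surjective g) (hgc : g.ker ≤ Subgroup.center H)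
    (hfg : f.ker ≤ g.ker) (hH : commutator H = ⊤) : May r T := by
  have hR : commutator f.range = ⊤ := by
    rw [← map_commutator_of_surj f.rangeRestrict_surjective, hH, ← MonoidHom.range_eq_map]
    exact MonoidHom.range_eq_top.2 f.rangeRestrict_surjective
  obtain ⟨G, _, _, π, hπ, hF⟩ := h.subgroup f.range hR
  -- the induced map `f.range → T`
  have hk : f.rangeRestrict.ker ≤ g.ker := by rw [MonoidHom.ker_rangeRestrict]; exact hfg
  let k : f.range →* T := (f.rangeRestrict.liftOfSurjective f.rangeRestrict_surjective) ⟨g, hk⟩
  have hkf : ∀ x, k (f.rangeRestrict x) = g x := by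
    intro x
    exact f.rangeRestrict.liftOfRightInverse_comp_apply _ _ ⟨g, hk⟩ x
  have hks : Function.Surjective k := by
    intro t
    obtain ⟨x, rfl⟩ := hg t
    exact ⟨f.rangeRestrict x, hkf x⟩
  have hkc : k.ker ≤ Subgroup.center f.range := by
    intro y hy
    obtain ⟨x, rfl⟩ := f.rangeRestrict_surjective y
    rw [MonoidHom.mem_ker, hkf] at hy
    have hx : x ∈ Subgroup.center H := hgc hy
    rw [Subgroup.mem_center_iff]
    intro z
    obtain ⟨w, rfl⟩ := f.rangeRestrict_surjective z
    rw [← map_mul, Subgroup.mem_center_iff.1 hx w, map_mul]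
  exact May.of_cover (hπ.comp hks hkc) hF

end Cfsg.Agent.H80.Fpf
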