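import Mathlib
import Cfsg.Agent.H717.Rep

/-!
# From a coprime action on a `p`-group to a complex representation, keeping fixed point freeness
-/

set_option autoImplicit false
set_option linter.style.haveILetI false

namespace Cfsg.Agent.H80.Fpf

universe u v

/-- A matrix with no nonzero fixed vector over a field: `det (A - 1) ≠ 0`. -/
theorem det_sub_one_ne_zero {F : Type*} [Field F] {n : ℕ} (A : Matrix (Fin n) (Fin n) F)
    (h : ∀ v : Fin n → F, A.mulVec v = v → v = 0) : (A - 1).det ≠ 0 := by
  intro h0
  obtain ⟨v, hv, hv0⟩ := Matrix.exists_mulVec_eq_zero_iff.2 h0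
  apply hv
  apply h
  rw [Matrix.sub_mulVec, Matrix.one_mulVec, sub_eq_zero] at hv0
  exact hv0

theorem eq_zero_of_det {F : Type*} [Field F] {n : ℕ} (A : Matrix (Fin n) (Fin n) F)
    (h : (A - 1).det ≠ 0) (v : Fin n → F) (hv : A.mulVec v = v) : v = 0 := by
  by_contra hv0
  apply h
  apply Matrix.exists_mulVec_eq_zero_iff.1
  exact ⟨v, hv0, by rw [Matrix.sub_mulVec, Matrix.one_mulVec, hv, sub_self]⟩

/-- **The complex representation of a coprime action**, keeping fixed point freeness. -/
theorem exists_rep_add {D : Type v} {E : Type u} [Group D] [Finite D] [AddCommGroup E] [Finite E]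
    [Nontrivial E] [DistribMulAction D E] {p : ℕ} [hp : Fact p.Prime] (hpE : ∀ e : E, p • e = 0)
    (hcop : ¬ p ∣ Nat.card D) :
    ∃ (n : ℕ) (ρ : Representation ℂ D (Fin n → ℂ)), 0 < n ∧
      ∀ g : D, (∀ e : E, g • e = e → e = 0) → ∀ v, ρ g v = v → v = 0 := by
  letI : Module (ZMod p) E := AddCommGroup.zmodModule (n := p) hpE
  let θ : D →* Module.End (ZMod p) E :=
    { toFun := fun g => AddMonoidHom.toZModLinearMap p (DistribMulAction.toAddMonoidEnd D E g)
      map_one' := by
        refine LinearMap.ext fun v => ?_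
        exact one_smul D v
      map_mul' := fun g g' => by
        refine LinearMap.ext fun v => ?_
        exact mul_smul g g' v }
  haveI : Module.Finite (ZMod p) E := Module.Finite.of_finite
  let n := Module.finrank (ZMod p) E
  have hn : 0 < n := Module.finrank_pos
  let b : Module.Basis (Fin n) (ZMod p) E := Module.finBasis (ZMod p) E
  let f : D →* Matrix (Fin n) (Fin n) (ZMod p) :=
    (LinearMap.toMatrixAlgEquiv b : Module.End (ZMod p) E ≃ₐ[ZMod p] _).toAlgHom.toRingHom.toMonoidHom.comp θ
  have hc : (Nat.card D).Coprime p := ((Nat.Prime.coprime_iff_not_dvd hp.out).2 hcop).symm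
  obtain ⟨τ, hτ⟩ := Cfsg.Agent.H348.Lift.exists_lift hc f.toHomUnits
  obtain ⟨ι, hι⟩ := Cfsg.Agent.H717.Rep.exists_padic_embedding p
  let F : D →* Matrix (Fin n) (Fin n) ℂ :=
    (ι.mapMatrix : Matrix (Fin n) (Fin n) ℤ_[p] →+* Matrix (Fin n) (Fin n) ℂ).toMonoidHom.comp
      ((Units.coeHom _).comp τ)
  refine ⟨n, (Matrix.toLinAlgEquiv' : Matrix (Fin n) (Fin n) ℂ ≃ₐ[ℂ] _).toAlgHom.toRingHom.toMonoidHom.comp F,
    hn, fun g hg v hv => ?_⟩
  have h1 : (f g - 1).det ≠ 0 := by
    apply det_sub_one_ne_zero
    intro w hw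
    have h2 : θ g (b.equivFun.symm w) = b.equivFun.symm w := by
      have h3 : (LinearMap.toMatrix b b (θ g)).mulVec (b.repr (b.equivFun.symm w)) =
          b.repr (θ g (b.equivFun.symm w)) := LinearMap.toMatrix_mulVec_repr b b (θ g) _
      have h4 : (b.repr (b.equivFun.symm w) : Fin n → ZMod p) = w := by
        have := b.equivFun.apply_symm_apply w
        exact this
      rw [h4] at h3
      have h5 : (LinearMap.toMatrix b b (θ g)).mulVec w = w := hw
      rw [h5] at h3
      apply b.equivFun.injective
      have h6 : b.equivFun (θ g (b.equivFun.symm w)) = w := h3.symm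
      rw [h6, b.equivFun.apply_symm_apply]
    have h7 := hg _ h2
    have h8 := congrArg b.equivFun h7
    rw [b.equivFun.apply_symm_apply, map_zero] at h8
    exact h8
  have h2 : ((τ g : Matrix (Fin n) (Fin n) ℤ_[p]) - 1).det ≠ 0 := by
    intro h0
    apply h1
    have h3 : (f g - 1) = (((τ g : Matrix (Fin n) (Fin n) ℤ_[p]) - 1).map (PadicInt.toZMod (p := p))) := by
      have h4 := congrArg (fun x : GL (Fin n) (ZMod p) => (x : Matrix (Fin n) (Fin n) (ZMod p))) (hτ g)
      have h5 : (τ g : Matrix (Fin n) (Fin n) ℤ_[p]).map (PadicInt.toZMod (p := p)) = f g := h4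
      rw [Matrix.map_sub _ (by simp), h5, Matrix.map_one _ (by simp) (by simp)]
    rw [h3, ← RingHom.mapMatrix_apply, ← RingHom.map_det, h0, map_zero]
  have h3 : (F g - 1).det ≠ 0 := by
    have h4 : F g - 1 = ι.mapMatrix ((τ g : Matrix (Fin n) (Fin n) ℤ_[p]) - 1) := by
      rw [map_sub, map_one]; rfl
    rw [h4, ← RingHom.map_det]
    intro h0
    exact h2 (hι (by rw [h0, map_zero]))
  exact eq_zero_of_det _ h3 v hv

/-- The elements of order dividing `p` of the centre of a group. -/
def omegaCentre (p : ℕ) (V : Type*) [Group V] : Subgroup V where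
  carrier := {v | v ∈ Subgroup.center V ∧ v ^ p = 1}
  one_mem' := ⟨one_mem _, one_pow p⟩
  mul_mem' := by
    intro a b ha hb
    refine ⟨mul_mem ha.1 hb.1, ?_⟩
    have hc : Commute a b := (Subgroup.mem_center_iff.1 ha.1 b).symm
    rw [hc.mul_pow, ha.2, hb.2, one_mul]
  inv_mem' := by
    intro a ha
    exact ⟨inv_mem ha.1, by rw [inv_pow, ha.2, inv_one]⟩

instance (p : ℕ) (V : Type*) [Group V] : CommGroup (omegaCentre p V) :=
  { (inferInstance : Group (omegaCentre p V)) with
    mul_comm := fun a b => Subtype.ext (Subgroup.mem_center_iff.1 b.2.1 a) }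

theorem map_mem_center {V : Type*} [Group V] (f : MulAut V) {v : V} (hv : v ∈ Subgroup.center V) :
    f v ∈ Subgroup.center V := by
  rw [Subgroup.mem_center_iff] at *
  intro g
  have := hv (f.symm g)
  have h2 := congrArg f this
  simpa using h2

/-- **The complex representation of a coprime action on a `p`-group**, keeping fixed point
freeness. -/
theorem exists_rep {G : Type v} {V : Type u} [Group G] [Finite G] [Group V] [Finite V]
    [Nontrivial V] {p : ℕ} (hp : p.Prime) (hV : IsPGroup p V) (hcop : ¬ p ∣ Nat.card G)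
    (φ : G →* MulAut V) :
    ∃ (n : ℕ) (ρ : Representation ℂ G (Fin n → ℂ)), 0 < n ∧
      ∀ g : G, (∀ v : V, φ g v = v → v = 1) → ∀ v, ρ g v = v → v = 0 := by
  haveI : Fact p.Prime := ⟨hp⟩
  haveI : Finite (Additive (omegaCentre p V)) := inferInstanceAs (Finite (omegaCentre p V))
  haveI : Nontrivial (Additive (omegaCentre p V)) := by
    haveI := hV.center_nontrivial
    obtain ⟨z, hz⟩ : ∃ z : Subgroup.center V, orderOf z = p := by
      have hc : IsPGroup p (Subgroup.center V) := hV.to_subgroup _
      obtain ⟨k, hk, hk2⟩ := (IsPGroup.nontrivial_iff_card hc).1 inferInstance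
      apply exists_prime_orderOf_dvd_card'
      rw [hk2]
      exact dvd_pow_self p hk.ne'
    refine ⟨⟨Additive.ofMul ⟨(z : V), z.2, ?_⟩, 0, ?_⟩⟩
    · rw [← Subgroup.orderOf_coe] at hz
      rw [← hz, pow_orderOf_eq_one]
    · intro h
      have h1 : (z : V) = 1 := congrArg (fun e : Additive (omegaCentre p V) => ((e.toMul : omegaCentre p V) : V)) h
      rw [← Subgroup.orderOf_coe, h1, orderOf_one] at hz
      exact hp.one_lt.ne hz
  letI : DistribMulAction G (Additive (omegaCentre p V)) :=
    { smul := fun g e => Additive.ofMul ⟨φ g (e.toMul : V), map_mem_center _ e.toMul.2.1, by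
        rw [← map_pow, e.toMul.2.2, map_one]⟩
      one_smul := fun e => by
        apply Additive.toMul.injective
        apply Subtype.ext
        show φ 1 _ = _
        rw [map_one]; rfl
      mul_smul := fun g g' e => by
        apply Additive.toMul.injective
        apply Subtype.ext
        show φ (g * g') _ = φ g (φ g' _)
        rw [map_mul]; rfl
      smul_zero := fun g => by
        apply Additive.toMul.injective
        apply Subtype.ext
        show φ g 1 = 1
        rw [map_one]
      smul_add := fun g e e' => by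
        apply Additive.toMul.injective
        apply Subtype.ext
        show φ g (_ * _) = φ g _ * φ g _
        rw [map_mul] }
  have hpE : ∀ e : Additive (omegaCentre p V), p • e = 0 := by
    intro e
    apply Additive.toMul.injective
    apply Subtype.ext
    exact e.toMul.2.2
  obtain ⟨n, ρ, hn, hρ⟩ := exists_rep_add (D := G) (E := Additive (omegaCentre p V)) hpE hcop
  refine ⟨n, ρ, hn, fun g hg => hρ g fun e he => ?_⟩
  apply Additive.toMul.injective
  apply Subtype.ext
  apply hg
  exact congrArg (fun e : Additive (omegaCentre p V) => ((e.toMul : omegaCentre p V) : V)) he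

end Cfsg.Agent.H80.Fpf
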