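import Mathlib
import Cfsg.Agent.H80.Fpf.Sub
import Cfsg.Agent.H80.Fpf.Lift

/-!
# Reduction of the statement on coprime actions to the rows
-/

set_option autoImplicit false
set_option linter.style.haveILetI false

namespace Cfsg.Agent.H80.Fpf

universe u v w

/-- **Reduction to the rows.** -/
theorem reduce (hrows : ∀ (S : Type) [Group S] [Finite S] [IsSimpleGroup S], Row S)
    {G : Type u} [Group G] [Finite G] (hperf : commutator G = ⊤)
    (hqs : IsSimpleGroup (G ⧸ Subgroup.center G))
    {V : Type v} [Group V] [Finite V] [Nontrivial V] (p : ℕ) (hp : p.Prime) (hV : IsPGroup p V)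
    (hcop : ¬ p ∣ Nat.card G) (φ : G →* MulAut V) (σ : Finset ℕ)
    (hσ : ∀ r ∈ σ, r.Prime ∧ r ≠ 2 ∧ r ∣ Nat.card G ∧ ∀ (R : Sylow r G) (g : G),
      g ∈ (R : Subgroup G) → g ≠ 1 → ∀ v : V, φ g v = v → v = 1) :
    σ.card ≤ 2 := by
  classical
  obtain ⟨n, ρ, hn, hρ⟩ := exists_rep hp hV hcop φ
  -- the simple quotient in `Type`
  let T := G ⧸ Subgroup.center G
  haveI : Small.{0} T := inferInstance
  let E : Shrink.{0} T ≃* T := Shrink.mulEquiv
  haveI : Finite (Shrink.{0} T) := Finite.of_equiv T (equivShrink T)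
  haveI hsimp : IsSimpleGroup (Shrink.{0} T) := by
    haveI := hqs
    exact E.isSimpleGroup
  have hcov : IsCover (QuotientGroup.mk' (Subgroup.center G)) := by
    refine ⟨QuotientGroup.mk'_surjective _, ?_, hperf⟩
    rw [QuotientGroup.ker_mk']
  obtain ⟨a, b, hab⟩ := hrows (Shrink.{0} T)
  have hsub : σ ⊆ {a, b} := by
    intro r hr
    obtain ⟨hrp, hr2, hrd, hfix⟩ := hσ r hr
    haveI : Fact r.Prime := ⟨hrp⟩
    have hF : IsFpf r G := by
      refine ⟨n, ρ, hn, fun g hg => hρ g ?_⟩
      have h1 : IsPGroup r (Subgroup.zpowers g) := by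
        rw [IsPGroup.iff_card]
        exact ⟨1, by rw [Nat.card_zpowers, hg, pow_one]⟩
      obtain ⟨R, hR⟩ := h1.exists_le_sylow
      apply hfix R g (hR (Subgroup.mem_zpowers g))
      rintro rfl
      rw [orderOf_one] at hg
      exact hrp.one_lt.ne hg
    have hM : May r (Shrink.{0} T) := (May.of_cover hcov hF).of_equiv E.symm
    have hd : r ∣ Nat.card (Shrink.{0} T) := by
      rw [Nat.card_congr E.toEquiv]
      have h2 := Subgroup.card_eq_card_quotient_mul_card_subgroup (Subgroup.center G)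
      rw [h2] at hrd
      rcases (Nat.Prime.dvd_mul hrp).1 hrd with h3 | h3
      · exact h3
      · exact absurd h3 (hF.not_dvd_center hrp hr2 hperf)
    rcases hab r hrp hr2 hd hM with h | h
    · rw [h]; simp
    · rw [h]; simp
  calc σ.card ≤ ({a, b} : Finset ℕ).card := Finset.card_le_card hsub
    _ ≤ 2 := Finset.card_le_two

/-- A simple group of prime order satisfies the row statement. -/
theorem row_of_prime {S : Type v} [Group S] (h : (Nat.card S).Prime) : Row S :=
  ⟨Nat.card S, Nat.card S, fun _ hr _ hd _ =>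
    Or.inl ((Nat.prime_dvd_prime_iff_eq hr h).1 hd)⟩

/-- The row statement if each odd prime divisor other than `a`, `b` is excluded. -/
theorem row_of {S : Type v} [Group S] (a b : ℕ)
    (h : ∀ r : ℕ, r.Prime → r ≠ 2 → r ∣ Nat.card S → r ≠ a → r ≠ b → ¬ May r S) : Row S := by
  refine ⟨a, b, fun r hr hr2 hd hM => ?_⟩
  by_contra hcon
  push Not at hcon
  exact h r hr hr2 hd hcon.1 hcon.2 hM

end Cfsg.Agent.H80.Fpf
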