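import Mathlib

/-!
# Normalisers of nonsplit elements of `SL_2(q)`
-/

set_option autoImplicit false
set_option linter.style.haveILetI false

namespace Cfsg.Agent.H80.Fpf

open Matrix

section

variable {F : Type*} [Field F]

/-- A matrix of determinant one of order `r` prime to `q - 1` and to the characteristic has no
eigenvalue in the field. -/
theorem no_root [Fintype F] {r : ℕ} (hr : r.Prime) (hrq : ¬ r ∣ Fintype.card F - 1) (hrF : (r : F) ≠ 0)
    (x : Matrix.SpecialLinearGroup (Fin 2) F) (hx : orderOf x = r) (l : F) :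
    l ^ 2 - (x 0 0 + x 1 1) * l + 1 ≠ 0 := by
  intro h0
  have hdet : x 0 0 * x 1 1 - x 0 1 * x 1 0 = 1 := by
    have := x.det_coe
    rwa [Matrix.det_fin_two] at this
  have hdet' : ((x : Matrix (Fin 2) (Fin 2) F) - l • (1 : Matrix (Fin 2) (Fin 2) F)).det = 0 := by
    rw [Matrix.det_fin_two]
    simp only [Matrix.sub_apply, Matrix.smul_apply, Matrix.one_apply_eq, smul_eq_mul, mul_one,
      Matrix.one_apply_ne (show (0 : Fin 2) ≠ 1 by decide), Matrix.one_apply_ne (show (1 : Fin 2) ≠ 0 by decide),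
      mul_zero, sub_zero]
    linear_combination h0 + hdet
  obtain ⟨v, hv0, hv⟩ := Matrix.exists_mulVec_eq_zero_iff.2 hdet'
  have hxv : (x : Matrix (Fin 2) (Fin 2) F) *ᵥ v = l • v := by
    rw [Matrix.sub_mulVec, Matrix.smul_mulVec, Matrix.one_mulVec, sub_eq_zero] at hv
    exact hv
  have hpow : ∀ k : ℕ, ((x : Matrix (Fin 2) (Fin 2) F) ^ k) *ᵥ v = l ^ k • v := by
    intro k
    induction k with
    | zero => simp
    | succ k ih =>
      rw [pow_succ, ← Matrix.mulVec_mulVec, hxv, Matrix.mulVec_smul, ih, smul_smul, pow_succ, mul_comm]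
  have hxr : (x : Matrix (Fin 2) (Fin 2) F) ^ r = 1 := by
    have h1 : x ^ r = 1 := by rw [← hx, pow_orderOf_eq_one]
    have h2 := congrArg (fun y : Matrix.SpecialLinearGroup (Fin 2) F => (y : Matrix (Fin 2) (Fin 2) F)) h1
    simpa using h2
  have hl : l ^ r = 1 := by
    have h1 := hpow r
    rw [hxr, Matrix.one_mulVec] at h1
    have h2 : (1 : F) • v = l ^ r • v := by rw [one_smul]; exact h1
    exact (smul_left_injective F hv0 h2).symm
  have hl0 : l ≠ 0 := by
    rintro rfl
    rw [zero_pow hr.ne_zero] at hl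
    exact zero_ne_one hl
  have hl1 : l = 1 := by
    have h1 : l ^ (Fintype.card F - 1) = 1 := FiniteField.pow_card_sub_one_eq_one l hl0
    have h2 : orderOf l ∣ Nat.gcd r (Fintype.card F - 1) :=
      Nat.dvd_gcd (orderOf_dvd_of_pow_eq_one hl) (orderOf_dvd_of_pow_eq_one h1)
    rw [(Nat.Prime.coprime_iff_not_dvd hr).2 hrq, Nat.dvd_one, orderOf_eq_one_iff] at h2
    exact h2
  subst hl1
  have ht : x 0 0 + x 1 1 = 2 := by linear_combination -h0
  -- `x = 1 + n`, `n ^ 2 = 0`
  set n : Matrix (Fin 2) (Fin 2) F := (x : Matrix (Fin 2) (Fin 2) F) - 1 with hn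
  have hn2 : n * n = 0 := by
    rw [hn]
    ext i j
    fin_cases i <;> fin_cases j <;>
      simp [Matrix.mul_apply, Fin.sum_univ_two, Matrix.sub_apply]
    · linear_combination x 0 0 * ht - hdet
    · linear_combination x 0 1 * ht
    · linear_combination x 1 0 * ht
    · linear_combination x 1 1 * ht - hdet
  have hk : ∀ k : ℕ, (x : Matrix (Fin 2) (Fin 2) F) ^ k = 1 + (k : F) • n := by
    intro k
    induction k with
    | zero => simp
    | succ k ih =>
      have hx1 : (x : Matrix (Fin 2) (Fin 2) F) = 1 + n := by rw [hn]; abel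
      rw [pow_succ, ih, hx1, add_mul, one_mul, smul_mul_assoc, mul_add, mul_one, hn2, add_zero]
      rw [Nat.cast_succ, add_smul, one_smul, add_assoc, add_comm n]
  have h1 := hk r
  rw [hxr] at h1
  have h2 : (r : F) • n = 0 := by simpa using h1.symm
  have h3 : n = 0 := (smul_eq_zero.1 h2).resolve_left hrF
  have h4 : x = 1 := by
    apply Subtype.ext
    have h5 : (x : Matrix (Fin 2) (Fin 2) F) = 1 := by rw [hn, sub_eq_zero] at h3; exact h3
    exact h5
  rw [h4, orderOf_one] at hx
  exact hr.one_lt.ne hx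

/-- The off-diagonal entry is nonzero. -/
theorem entry_ne_zero (x : Matrix.SpecialLinearGroup (Fin 2) F)
    (h : ∀ l : F, l ^ 2 - (x 0 0 + x 1 1) * l + 1 ≠ 0) : x 0 1 ≠ 0 := by
  intro h0
  have hdet : x 0 0 * x 1 1 - x 0 1 * x 1 0 = 1 := by
    have := x.det_coe
    rwa [Matrix.det_fin_two] at this
  apply h (x 0 0)
  rw [h0] at hdet
  linear_combination -hdet

/-- Elements commuting with `x` are determined by two entries. -/
theorem comm_entries {x y : Matrix.SpecialLinearGroup (Fin 2) F} (hs : x 0 1 ≠ 0) (hxy : x * y = y * x) :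
    y 1 0 = y 0 1 * (x 1 0 / x 0 1) ∧ y 1 1 = y 0 0 - y 0 1 * ((x 0 0 - x 1 1) / x 0 1) := by
  have h1 := congrArg (fun z : Matrix.SpecialLinearGroup (Fin 2) F => (z : Matrix (Fin 2) (Fin 2) F)) hxy
  simp only [Matrix.SpecialLinearGroup.coe_mul] at h1
  have h00 := congrFun (congrFun h1 0) 0
  have h01 := congrFun (congrFun h1 0) 1
  simp only [Matrix.mul_apply, Fin.sum_univ_two] at h00 h01
  constructor
  · field_simp
    linear_combination h00
  · field_simp
    linear_combination h01

/-- The quadratic equation for the entries of an element commuting with `x`. -/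
theorem quad {x y : Matrix.SpecialLinearGroup (Fin 2) F} (hs : x 0 1 ≠ 0) (hxy : x * y = y * x) :
    (y 0 0) ^ 2 - y 0 0 * (y 0 1 * ((x 0 0 - x 1 1) / x 0 1)) - (y 0 1) ^ 2 * (x 1 0 / x 0 1) = 1 := by
  obtain ⟨h1, h2⟩ := comm_entries hs hxy
  have hdet : y 0 0 * y 1 1 - y 0 1 * y 1 0 = 1 := by
    have := y.det_coe
    rwa [Matrix.det_fin_two] at this
  rw [h1, h2] at hdet
  linear_combination hdet

/-- The centraliser of a nonsplit element has order at most `2 q`. -/
theorem card_centralizer_le [Fintype F] (x : Matrix.SpecialLinearGroup (Fin 2) F) (hs : x 0 1 ≠ 0) :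
    Nat.card (Subgroup.centralizer ({x} : Set (Matrix.SpecialLinearGroup (Fin 2) F))) ≤ 2 * Fintype.card F := by
  classical
  let C := Subgroup.centralizer ({x} : Set (Matrix.SpecialLinearGroup (Fin 2) F))
  haveI : Finite (Matrix.SpecialLinearGroup (Fin 2) F) := inferInstance
  haveI : Fintype C := Fintype.ofFinite C
  have hC : ∀ y : C, x * y = y * x := fun y => Subgroup.mem_centralizer_iff.1 y.2 x rfl
  rw [Nat.card_eq_fintype_card]
  have h := Finset.card_le_mul_card_image (s := (Finset.univ : Finset C)) (f := fun y : C => (y : Matrix.SpecialLinearGroup (Fin 2) F) 0 1) 2 ?_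
  · rw [Finset.card_univ] at h
    refine h.trans (Nat.mul_le_mul_left 2 ?_)
    rw [← Finset.card_univ (α := F)]
    exact Finset.card_le_card (Finset.subset_univ _)
  · intro b _
    by_contra hlt
    push Not at hlt
    obtain ⟨u, hu, v, hv, w, hw, huv, huw, hvw⟩ := Finset.two_lt_card.1 hlt
    rw [Finset.mem_filter] at hu hv hw
    have key : ∀ u v : C, (u : Matrix.SpecialLinearGroup (Fin 2) F) 0 1 = b → (v : Matrix.SpecialLinearGroup (Fin 2) F) 0 1 = b →
        u ≠ v → (u : Matrix.SpecialLinearGroup (Fin 2) F) 0 0 ≠ (v : Matrix.SpecialLinearGroup (Fin 2) F) 0 0 := by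
      intro u v hu hv huv h00
      apply huv
      apply Subtype.ext
      obtain ⟨h1, h2⟩ := comm_entries hs (hC u)
      obtain ⟨h3, h4⟩ := comm_entries hs (hC v)
      ext i j
      fin_cases i <;> fin_cases j
      · exact h00
      · exact hu.trans hv.symm
      · show (u : Matrix.SpecialLinearGroup (Fin 2) F) 1 0 = (v : Matrix.SpecialLinearGroup (Fin 2) F) 1 0
        rw [h1, h3, hu, hv]
      · show (u : Matrix.SpecialLinearGroup (Fin 2) F) 1 1 = (v : Matrix.SpecialLinearGroup (Fin 2) F) 1 1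
        rw [h2, h4, hu, hv, h00]
    have sum : ∀ u v : C, (u : Matrix.SpecialLinearGroup (Fin 2) F) 0 1 = b → (v : Matrix.SpecialLinearGroup (Fin 2) F) 0 1 = b →
        u ≠ v → (u : Matrix.SpecialLinearGroup (Fin 2) F) 0 0 + (v : Matrix.SpecialLinearGroup (Fin 2) F) 0 0 =
          b * ((x 0 0 - x 1 1) / x 0 1) := by
      intro u v hu hv huv
      have h1 := quad hs (hC u)
      have h2 := quad hs (hC v)
      rw [hu] at h1
      rw [hv] at h2
      have h3 := key u v hu hv huv
      have h4 : ((u : Matrix.SpecialLinearGroup (Fin 2) F) 0 0 - (v : Matrix.SpecialLinearGroup (Fin 2) F) 0 0) *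
          ((u : Matrix.SpecialLinearGroup (Fin 2) F) 0 0 + (v : Matrix.SpecialLinearGroup (Fin 2) F) 0 0 -
          b * ((x 0 0 - x 1 1) / x 0 1)) = 0 := by
        linear_combination h1 - h2
      rcases mul_eq_zero.1 h4 with h5 | h5
      · exact absurd (sub_eq_zero.1 h5) h3
      · exact sub_eq_zero.1 h5
    have e1 := sum u v hu.2 hv.2 huv
    have e2 := sum u w hu.2 hw.2 huw
    exact key v w hv.2 hw.2 hvw (by linear_combination e1 - e2)

/-- Two commuting elements with the same trace are equal or inverse. -/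
theorem eq_or_inv {x y : Matrix.SpecialLinearGroup (Fin 2) F}
    (h : ∀ l : F, l ^ 2 - (x 0 0 + x 1 1) * l + 1 ≠ 0) (hxy : x * y = y * x)
    (htr : y 0 0 + y 1 1 = x 0 0 + x 1 1) : y = x ∨ y = x⁻¹ := by
  have hs := entry_ne_zero x h
  obtain ⟨h1, h2⟩ := comm_entries hs hxy
  have hdet : x 0 0 * x 1 1 - x 0 1 * x 1 0 = 1 := by
    have := x.det_coe
    rwa [Matrix.det_fin_two] at this
  have hdy : y 0 0 * y 1 1 - y 0 1 * y 1 0 = 1 := by
    have := y.det_coe
    rwa [Matrix.det_fin_two] at this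
  -- `β = y01 / x01`, `α = y00 - β x00`; then `y = α + β x`
  obtain ⟨β, hβ⟩ : ∃ β, y 0 1 = β * x 0 1 := ⟨y 0 1 / x 0 1, by field_simp⟩
  obtain ⟨α, hα⟩ : ∃ α, y 0 0 = α + β * x 0 0 := ⟨y 0 0 - β * x 0 0, by ring⟩
  have e1 : y 1 0 = β * x 1 0 := by rw [h1, hβ]; field_simp
  have e2 : y 1 1 = α + β * x 1 1 := by
    rw [h2, hβ, hα]; field_simp; ring
  -- trace: `2 α + β t = t`; determinant: `α ^ 2 + α β t + β ^ 2 = 1`
  have t1 : 2 * α + β * (x 0 0 + x 1 1) = x 0 0 + x 1 1 := by
    rw [hα, e2] at htr; linear_combination htr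
  have d1 : α ^ 2 + α * β * (x 0 0 + x 1 1) + β ^ 2 = 1 := by
    rw [hα, e2, hβ, e1] at hdy; linear_combination hdy - β ^ 2 * hdet
  set t := x 0 0 + x 1 1 with ht
  have hinv : ∀ a b, α = a → β = b → (a = 0 ∧ b = 1 ∨ a = t ∧ b = -1) → y = x ∨ y = x⁻¹ := by
    rintro a b rfl rfl (⟨h3, h4⟩ | ⟨h3, h4⟩)
    · left
      ext i j
      fin_cases i <;> fin_cases j
      · show y 0 0 = x 0 0
        rw [hα, h3, h4]; ring
      · show y 0 1 = x 0 1
        rw [hβ, h4]; ring
      · show y 1 0 = x 1 0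
        rw [e1, h4]; ring
      · show y 1 1 = x 1 1
        rw [e2, h3, h4]; ring
    · right
      ext i j
      rw [Matrix.SpecialLinearGroup.coe_inv, Matrix.adjugate_fin_two]
      fin_cases i <;> fin_cases j
      · show y 0 0 = x 1 1
        rw [hα, h3, h4, ht]; ring
      · show y 0 1 = - x 0 1
        rw [hβ, h4]; ring
      · show y 1 0 = - x 1 0
        rw [e1, h4]; ring
      · show y 1 1 = x 0 0
        rw [e2, h3, h4, ht]; ring
  by_cases h2F : (2 : F) = 0
  · have ht0 : t ≠ 0 := by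
      intro h0
      apply h 1
      rw [h0]
      linear_combination h2F
    have hb : β = 1 := by
      have h3 : (β - 1) * t = 0 := by linear_combination t1 - α * h2F
      exact sub_eq_zero.1 ((mul_eq_zero.1 h3).resolve_right ht0)
    rw [hb] at d1
    have h4 : α * (α + t) = 0 := by linear_combination d1
    rcases mul_eq_zero.1 h4 with h5 | h5
    · exact hinv α β rfl rfl (Or.inl ⟨h5, hb⟩)
    · refine hinv α β rfl rfl (Or.inr ⟨?_, ?_⟩)
      · linear_combination h5 - t * h2F
      · rw [hb]; linear_combination h2F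
  · have ht4 : t ^ 2 - 4 ≠ 0 := by
      intro h0
      apply h (t / 2)
      field_simp
      linear_combination -h0
    have key : (β - 1) * (β + 1) * (t ^ 2 - 4) = 0 := by
      linear_combination (t * (β * 2 * 0)) * t1 + (-(2 * α + β * t) - t) * t1 * (-1) + (-4) * d1
    rcases mul_eq_zero.1 ((mul_eq_zero.1 key).resolve_right ht4) with h5 | h5
    · have hb : β = 1 := sub_eq_zero.1 h5
      refine hinv α β rfl rfl (Or.inl ⟨?_, hb⟩)
      have h6 : 2 * α = 0 := by rw [hb] at t1; linear_combination t1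
      exact (mul_eq_zero.1 h6).resolve_left h2F
    · have hb : β = -1 := by linear_combination h5
      refine hinv α β rfl rfl (Or.inr ⟨?_, hb⟩)
      have h6 : 2 * (α - t) = 0 := by rw [hb] at t1; linear_combination t1
      exact sub_eq_zero.1 ((mul_eq_zero.1 h6).resolve_left h2F)

theorem comm_of_conj_eq {G : Type*} [Group G] {a b z : G} (h : a * z * a⁻¹ = b * z * b⁻¹) :
    z * (a⁻¹ * b) = a⁻¹ * b * z := by
  calc z * (a⁻¹ * b) = a⁻¹ * (a * z * a⁻¹) * b := by group
    _ = a⁻¹ * (b * z * b⁻¹) * b := by rw [h]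
    _ = a⁻¹ * b * z := by group

/-- The normaliser of a subgroup of prime order generated by a nonsplit element. -/
theorem card_normalizer_le [Fintype F] (x : Matrix.SpecialLinearGroup (Fin 2) F)
    (h : ∀ l : F, l ^ 2 - (x 0 0 + x 1 1) * l + 1 ≠ 0) :
    Nat.card (Subgroup.normalizer (Subgroup.zpowers x : Set (Matrix.SpecialLinearGroup (Fin 2) F))) ≤
      4 * Fintype.card F := by
  classical
  let G := Matrix.SpecialLinearGroup (Fin 2) F
  let N : Subgroup G := Subgroup.normalizer (Subgroup.zpowers x : Set G)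
  let C : Subgroup G := Subgroup.centralizer ({x} : Set G)
  have hs := entry_ne_zero x h
  have hC := card_centralizer_le x hs
  -- each element of the normaliser conjugates `x` to `x` or `x⁻¹`
  have hN : ∀ g ∈ N, g * x * g⁻¹ = x ∨ g * x * g⁻¹ = x⁻¹ := by
    intro g hg
    have h1 : g * x * g⁻¹ ∈ Subgroup.zpowers x :=
      (Subgroup.mem_normalizer_iff.1 hg x).1 (Subgroup.mem_zpowers x)
    obtain ⟨k, hk⟩ := h1
    apply eq_or_inv h
    · rw [← hk]
      exact ((Commute.refl x).zpow_right k).eq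
    · have h2 : ∀ z : G, z 0 0 + z 1 1 = (z : Matrix (Fin 2) (Fin 2) F).trace := fun z =>
        (Matrix.trace_fin_two (z : Matrix (Fin 2) (Fin 2) F)).symm
      rw [h2, h2]
      rw [Matrix.SpecialLinearGroup.coe_mul, Matrix.trace_mul_comm, ← Matrix.SpecialLinearGroup.coe_mul]
      congr 2
      rw [← mul_assoc, inv_mul_cancel, one_mul]
  have hCN : C ≤ N := by
    intro g hg
    have h1 : g * x * g⁻¹ = x := by
      rw [← Subgroup.mem_centralizer_iff.1 hg x rfl, mul_inv_cancel_right]
    show g ∈ Subgroup.normalizer (Subgroup.zpowers x : Set G)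
    rw [Subgroup.mem_normalizer_iff]
    have h3 : ∀ k : ℤ, g * x ^ k * g⁻¹ = x ^ k := by
      intro k
      rw [← conj_zpow, h1]
    intro n
    constructor
    · rintro ⟨k, rfl⟩
      exact ⟨k, (h3 k).symm⟩
    · rintro ⟨k, hk⟩
      refine ⟨k, ?_⟩
      have h4 : x ^ k = g * n * g⁻¹ := hk
      have h5 : g * x ^ k * g⁻¹ = g * n * g⁻¹ := (h3 k).trans h4
      simpa using h5
  have hrel : C.relIndex N ≤ 2 := by
    have hsub : Nat.card (N ⧸ C.subgroupOf N) ≤ Nat.card Bool := by
      refine Nat.card_le_card_of_injective (fun q : N ⧸ C.subgroupOf N => decide (((Quotient.out q : N) : G) * x * ((Quotient.out q : N) : G)⁻¹ = x)) ?_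
      intro q₁ q₂ h12
      have h1 : (((Quotient.out q₁ : N) : G) * x * ((Quotient.out q₁ : N) : G)⁻¹ = x) ↔
          (((Quotient.out q₂ : N) : G) * x * ((Quotient.out q₂ : N) : G)⁻¹ = x) := by
        simpa using h12
      have h2 : ((Quotient.out q₁ : N) : G) * x * ((Quotient.out q₁ : N) : G)⁻¹ =
          ((Quotient.out q₂ : N) : G) * x * ((Quotient.out q₂ : N) : G)⁻¹ := by
        rcases hN _ (Quotient.out q₁ : N).2 with h3 | h3
        · rw [h3, h1.1 h3]
        · rcases hN _ (Quotient.out q₂ : N).2 with h4 | h4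
          · rw [h4, h1.2 h4]
          · rw [h3, h4]
      rw [← Quotient.out_eq q₁, ← Quotient.out_eq q₂]
      apply QuotientGroup.eq.2
      rw [Subgroup.mem_subgroupOf]
      show ((Quotient.out q₁ : N)⁻¹ * (Quotient.out q₂ : N) : G) ∈ C
      rw [Subgroup.mem_centralizer_iff]
      intro z hz
      rw [Set.mem_singleton_iff] at hz
      subst hz
      exact comm_of_conj_eq h2
    have : Nat.card Bool = 2 := by simp
    rw [Subgroup.relIndex, Subgroup.index_eq_card]
    rw [this] at hsub
    exact hsub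
  have hcard : Nat.card N = C.relIndex N * Nat.card C := by
    rw [Subgroup.card_eq_card_quotient_mul_card_subgroup (C.subgroupOf N), Subgroup.relIndex,
      Subgroup.index_eq_card, Nat.card_congr (Subgroup.subgroupOfEquivOfLe hCN).toEquiv]
  calc Nat.card N = C.relIndex N * Nat.card C := hcard
    _ ≤ 2 * (2 * Fintype.card F) := Nat.mul_le_mul hrel hC
    _ = 4 * Fintype.card F := by ring

end

end Cfsg.Agent.H80.Fpf
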