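import Mathlib
import Cfsg.Agent.H80.Fpf.Abel
import Cfsg.Agent.H94.PrimeGraph
import Cfsg.Agent.BpLieP.Big

/-!
# Groups all of whose `l`-local subgroups have characteristic `l`

* `not_may_of_loc` : an element of prime order `r ≠ l` normalising a nontrivial `l`-subgroup;
* `not_may_of_dvd_normalizer` : `r` divides the order of an `l`-local subgroup;
* `not_may_of_adj` : `r` is adjacent to `l` in the prime graph.
-/

set_option autoImplicit false
set_option linter.style.haveILetI false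

namespace Cfsg.Agent.H80.Fpf

universe u v w

open Cfsg Cfsg.Agent.BpLieP.Big

/-- **Criterion.** In a simple group all of whose `l`-local subgroups have characteristic `l`, an
element of prime order `r ≠ l` normalising a nontrivial `l`-subgroup excludes `May r S`
(`Good l r`). -/
theorem not_may_of_loc {S : Type v} [Group S] [Finite S] [IsSimpleGroup S] {r l : ℕ} (hr : r.Prime)
    (hr2 : r ≠ 2) (hl : l.Prime) (hlr : l ≠ r) (hgood : Good l r) (hloc : LocChar l S)
    {K : Subgroup S} (hK : IsPGroup l K) (hK1 : K ≠ ⊥) {x : S} (hx : orderOf x = r)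
    (hxK : x ∈ Subgroup.normalizer (K : Set S)) : ¬ May r S := by
  intro h
  let N : Subgroup S := Subgroup.normalizer (K : Set S)
  let P : Subgroup N := pCore l N
  have hP : IsPGroup l P := by
    haveI : Fact l.Prime := ⟨hl⟩
    exact Cfsg.Agent.Lib.Cores.pCore_isPGroup l
  have hloc1 := hloc K hK hK1
  let Q : Subgroup S := P.map N.subtype
  have hQ : IsPGroup l Q := hP.map _
  have hPn : P.Normal := inferInstance
  have h1 := h.comm hr hr2 hl hlr hgood hQ hx (by
    rintro _ ⟨y, hy, rfl⟩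
    exact ⟨(⟨x, hxK⟩ : N) * y * (⟨x, hxK⟩ : N)⁻¹, hPn.conj_mem y hy _, rfl⟩)
  have h2 : (⟨x, hxK⟩ : N) ∈ Subgroup.centralizer (P : Set N) := by
    rw [Subgroup.mem_centralizer_iff]
    intro y hy
    apply Subtype.ext
    exact (h1 y ⟨y, hy, rfl⟩).symm
  have h3 : (⟨x, hxK⟩ : N) ∈ P := hloc1 h2
  obtain ⟨k, hk⟩ := hP ⟨_, h3⟩
  have h4 : x ^ l ^ k = 1 := congrArg (fun z : P => ((z : N) : S)) hk
  have h5 : r ∣ l ^ k := by rw [← hx]; exact orderOf_dvd_of_pow_eq_one h4
  exact hlr ((Nat.prime_dvd_prime_iff_eq hr hl).1 (hr.dvd_of_dvd_pow h5)).symm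

/-- The same if `r` divides the order of an `l`-local subgroup. -/
theorem not_may_of_dvd_normalizer {S : Type v} [Group S] [Finite S] [IsSimpleGroup S] {r l : ℕ} (hr : r.Prime)
    (hr2 : r ≠ 2) (hl : l.Prime) (hlr : l ≠ r) (hgood : Good l r) (hloc : LocChar l S)
    {K : Subgroup S} (hK : IsPGroup l K) (hK1 : K ≠ ⊥)
    (hd : r ∣ Nat.card (Subgroup.normalizer (K : Set S))) : ¬ May r S := by
  haveI : Fact r.Prime := ⟨hr⟩
  obtain ⟨x, hx⟩ := exists_prime_orderOf_dvd_card' r hd
  exact not_may_of_loc hr hr2 hl hlr hgood hloc hK hK1 (x := (x : S)) (by rw [Subgroup.orderOf_coe, hx]) x.2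

/-- The same if `r` is adjacent to `l` in the prime graph. -/
theorem not_may_of_adj {S : Type v} [Group S] [Finite S] [IsSimpleGroup S] {r l : ℕ}
    (hr2 : r ≠ 2) (hgood : Good l r) (hloc : LocChar l S)
    (h : Cfsg.Agent.H94.PG.Adj S r l) : ¬ May r S := by
  obtain ⟨hr, hl, hrl, x, y, hx, hy, hc⟩ := h
  haveI : Fact l.Prime := ⟨hl⟩
  apply not_may_of_loc hr hr2 hl hrl.symm hgood hloc (K := Subgroup.zpowers y) _ _ hx _
  · rw [IsPGroup.iff_card]
    exact ⟨1, by rw [Nat.card_zpowers, hy, pow_one]⟩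
  · rw [Ne, Subgroup.zpowers_eq_bot]
    rintro rfl
    rw [orderOf_one] at hy
    exact hl.one_lt.ne hy
  · rw [Subgroup.mem_normalizer_iff]
    have hxy : ∀ k : ℤ, x * y ^ k * x⁻¹ = y ^ k := by
      intro k
      rw [(hc.zpow_right k).eq, mul_inv_cancel_right]
    intro n
    constructor
    · rintro ⟨k, rfl⟩
      exact ⟨k, (hxy k).symm⟩
    · rintro ⟨k, hk⟩
      refine ⟨k, ?_⟩
      have h1 : y ^ k = x * n * x⁻¹ := hk
      have h2 : x * y ^ k * x⁻¹ = x * n * x⁻¹ := (hxy k).trans h1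
      have h3 : y ^ k = n := by simpa using h2
      exact h3

end Cfsg.Agent.H80.Fpf
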