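import Cfsg.Agent.H80.Fpf.Abel

/-!
# Heisenberg subgroups of symplectic groups

`heis e`: the elements `v ↦ v + ω(v, e) u + ω(v, u) e + c ω(v, e) e` for `u ⊥ e`.
-/

set_option autoImplicit false
set_option linter.style.haveILetI false
set_option linter.unusedSectionVars false

namespace Cfsg.Agent.H80.Fpf

open Matrix

namespace SpH

section

variable {l : Type} [Fintype l] [DecidableEq l] {F : Type} [Field F]

/-- The symplectic form. -/
def om (v w : l ⊕ l → F) : F := v ⬝ᵥ (J l F *ᵥ w)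

theorem om_add_left (v v' w : l ⊕ l → F) : om (v + v') w = om v w + om v' w := by
  rw [om, om, om, add_dotProduct]

theorem om_smul_left (c : F) (v w : l ⊕ l → F) : om (c • v) w = c * om v w := by
  rw [om, om, smul_dotProduct, smul_eq_mul]

theorem om_add_right (v w w' : l ⊕ l → F) : om v (w + w') = om v w + om v w' := by
  rw [om, om, om, mulVec_add, dotProduct_add]

theorem om_smul_right (c : F) (v w : l ⊕ l → F) : om v (c • w) = c * om v w := by
  rw [om, om, mulVec_smul, dotProduct_smul, smul_eq_mul]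

theorem om_self (v : l ⊕ l → F) : om v v = 0 := by
  have h : v = Sum.elim (v ∘ Sum.inl) (v ∘ Sum.inr) := (Sum.elim_comp_inl_inr v).symm
  rw [om, h, J, fromBlocks_mulVec]
  simp only [Sum.elim_comp_inl, Sum.elim_comp_inr, zero_mulVec, neg_mulVec, one_mulVec, zero_add, add_zero]
  rw [sumElim_dotProduct_sumElim, dotProduct_neg, dotProduct_comm (v ∘ Sum.inr)]
  ring

theorem om_skew (v w : l ⊕ l → F) : om v w = -om w v := by
  have h := om_self (v + w)
  rw [om_add_left, om_add_right, om_add_right, om_self, om_self] at h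
  linear_combination h

theorem om_sub_right (v w w' : l ⊕ l → F) : om v (w - w') = om v w - om v w' := by
  rw [om, om, om, mulVec_sub, dotProduct_sub]

theorem om_sub_left (v v' w : l ⊕ l → F) : om (v - v') w = om v w - om v' w := by
  rw [om, om, om, sub_dotProduct]

theorem exists_om_ne_zero {e : l ⊕ l → F} (he : e ≠ 0) : ∃ v, om v e ≠ 0 := by
  by_contra h
  push Not at h
  apply he
  have h1 : J l F *ᵥ e = 0 := by
    ext i
    have := h (Pi.single i 1)
    rw [om, single_one_dotProduct] at this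
    exact this
  have h2 : J l F * J l F = -1 := J_squared l F
  have h3 : (J l F * J l F) *ᵥ e = 0 := by rw [← mulVec_mulVec, h1, mulVec_zero]
  rw [h2, neg_mulVec, one_mulVec, neg_eq_zero] at h3
  exact h3

theorem om_mulVec (g : symplecticGroup l F) (v w : l ⊕ l → F) :
    om ((g : Matrix (l ⊕ l) (l ⊕ l) F) *ᵥ v) ((g : Matrix (l ⊕ l) (l ⊕ l) F) *ᵥ w) = om v w := by
  have h := SymplecticGroup.mem_iff'.1 g.2
  rw [om, om, mulVec_mulVec, dotProduct_mulVec, vecMul_mulVec, ← mul_assoc, h, dotProduct_mulVec]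

/-- An isometry as an element of the symplectic group. -/
noncomputable def mk (f : (l ⊕ l → F) →ₗ[F] (l ⊕ l → F)) (hf : ∀ v w, om (f v) (f w) = om v w) :
    symplecticGroup l F :=
  ⟨LinearMap.toMatrix' f, by
    rw [SymplecticGroup.mem_iff']
    ext i j
    have h := hf (Pi.single i 1) (Pi.single j 1)
    rw [← LinearMap.toMatrix'_mulVec f (Pi.single i 1), ← LinearMap.toMatrix'_mulVec f (Pi.single j 1), om, om,
      mulVec_mulVec, dotProduct_mulVec, vecMul_mulVec, ← mul_assoc] at h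
    rw [single_one_dotProduct] at h
    simpa using h⟩

theorem mk_mulVec (f : (l ⊕ l → F) →ₗ[F] (l ⊕ l → F)) (hf : ∀ v w, om (f v) (f w) = om v w) (v : l ⊕ l → F) :
    (mk f hf : Matrix (l ⊕ l) (l ⊕ l) F) *ᵥ v = f v := LinearMap.toMatrix'_mulVec f v

theorem ext_mulVec {g h : symplecticGroup l F}
    (hgh : ∀ v, (g : Matrix (l ⊕ l) (l ⊕ l) F) *ᵥ v = (h : Matrix (l ⊕ l) (l ⊕ l) F) *ᵥ v) : g = h := by
  apply Subtype.ext
  apply Matrix.toLin'.injective
  apply LinearMap.ext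
  exact hgh

/-- The Heisenberg operator. -/
def ht (e u : l ⊕ l → F) (c : F) (v : l ⊕ l → F) : l ⊕ l → F :=
  v + om v e • u + om v u • e + (c * om v e) • e

/-- The operator as a linear map. -/
def htL (e u : l ⊕ l → F) (c : F) : (l ⊕ l → F) →ₗ[F] (l ⊕ l → F) where
  toFun := ht e u c
  map_add' := by
    intro v w
    simp only [ht, om_add_left, add_smul, mul_add]
    abel
  map_smul' := by
    intro a v
    simp only [ht, om_smul_left, RingHom.id_apply, smul_add, smul_smul]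
    rw [mul_left_comm]

theorem ht_om {e u : l ⊕ l → F} (hu : om u e = 0) (c : F) (v w : l ⊕ l → F) :
    om (ht e u c v) (ht e u c w) = om v w := by
  have h1 : om e u = 0 := by rw [om_skew, hu, neg_zero]
  simp only [ht, om_add_left, om_add_right, om_smul_left, om_smul_right, om_self, hu, h1]
  rw [om_skew e w, om_skew u w]
  ring

theorem ht_om_e {e u : l ⊕ l → F} (hu : om u e = 0) (c : F) (v : l ⊕ l → F) : om (ht e u c v) e = om v e := by
  simp only [ht, om_add_left, om_smul_left, om_self, hu]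
  ring

theorem ht_ht {e u u' : l ⊕ l → F} (hu : om u e = 0) (hu' : om u' e = 0) (c c' : F) (v : l ⊕ l → F) :
    ht e u c (ht e u' c' v) = ht e (u + u') (c + c' + om u' u) v := by
  have h1 : om e u = 0 := by rw [om_skew, hu, neg_zero]
  conv_lhs => rw [ht, ht_om_e hu']
  have h2 : om (ht e u' c' v) u = om v u + om v e * om u' u := by
    simp only [ht, om_add_left, om_smul_left, h1]
    ring
  rw [h2, ht, ht, om_add_right]
  simp only [smul_add, add_smul, add_mul, mul_add]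
  rw [mul_comm (om u' u) (om v e)]
  abel

/-- The elements of the symplectic group. -/
noncomputable def hel (e u : l ⊕ l → F) (hu : om u e = 0) (c : F) : symplecticGroup l F :=
  mk (htL e u c) (ht_om hu c)

theorem hel_mulVec (e u : l ⊕ l → F) (hu : om u e = 0) (c : F) (v : l ⊕ l → F) :
    (hel e u hu c : Matrix (l ⊕ l) (l ⊕ l) F) *ᵥ v = ht e u c v := mk_mulVec _ _ v

theorem ht_zero (e v : l ⊕ l → F) : ht e 0 0 v = v := by
  have h : om v (0 : l ⊕ l → F) = 0 := by rw [om, mulVec_zero, dotProduct_zero]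
  rw [ht, h]
  simp

/-- The Heisenberg subgroup. -/
noncomputable def heis (e : l ⊕ l → F) : Subgroup (symplecticGroup l F) where
  carrier := {g | ∃ u c, om u e = 0 ∧ ∀ v, (g : Matrix (l ⊕ l) (l ⊕ l) F) *ᵥ v = ht e u c v}
  one_mem' := ⟨0, 0, by rw [om, zero_dotProduct], fun v => by
    rw [ht_zero]
    exact one_mulVec v⟩
  mul_mem' := by
    rintro g h ⟨u, c, hu, hg⟩ ⟨u', c', hu', hh⟩
    refine ⟨u + u', c + c' + om u' u, by rw [om_add_left, hu, hu', add_zero], fun v => ?_⟩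
    rw [← ht_ht hu hu', ← hh, ← hg, mulVec_mulVec]
    rfl
  inv_mem' := by
    rintro g ⟨u, c, hu, hg⟩
    have hu2 : om (-u) e = 0 := by rw [← neg_one_smul F u, om_smul_left, hu, mul_zero]
    refine ⟨-u, -c, hu2, fun v => ?_⟩
    have h1 : (g : Matrix (l ⊕ l) (l ⊕ l) F) *ᵥ ht e (-u) (-c) v = v := by
      rw [hg, ht_ht hu hu2]
      have h2 : om (-u) u = 0 := by rw [← neg_one_smul F u, om_smul_left, om_self, mul_zero]
      rw [h2, add_neg_cancel, add_neg_cancel, add_zero, ht_zero]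
    conv_lhs => rw [← h1]
    rw [mulVec_mulVec]
    have h3 : ((g⁻¹ : symplecticGroup l F) : Matrix (l ⊕ l) (l ⊕ l) F) * (g : Matrix (l ⊕ l) (l ⊕ l) F) = 1 := by
      have := congrArg (fun z : symplecticGroup l F => (z : Matrix (l ⊕ l) (l ⊕ l) F)) (inv_mul_cancel g)
      exact this
    rw [h3, one_mulVec]

theorem mem_heis {e : l ⊕ l → F} {g : symplecticGroup l F} :
    g ∈ heis e ↔ ∃ u c, om u e = 0 ∧ ∀ v, (g : Matrix (l ⊕ l) (l ⊕ l) F) *ᵥ v = ht e u c v := Iff.rfl

theorem coe_mul_mulVec (g h : symplecticGroup l F) (v : l ⊕ l → F) :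
    ((g * h : symplecticGroup l F) : Matrix (l ⊕ l) (l ⊕ l) F) *ᵥ v =
      (g : Matrix (l ⊕ l) (l ⊕ l) F) *ᵥ ((h : Matrix (l ⊕ l) (l ⊕ l) F) *ᵥ v) := by
  rw [mulVec_mulVec]; rfl

theorem pow_ht {e u : l ⊕ l → F} (hu : om u e = 0) (c : F) {g : symplecticGroup l F}
    (hg : ∀ v, (g : Matrix (l ⊕ l) (l ⊕ l) F) *ᵥ v = ht e u c v) (n : ℕ) (v : l ⊕ l → F) :
    ((g ^ n : symplecticGroup l F) : Matrix (l ⊕ l) (l ⊕ l) F) *ᵥ v = ht e ((n : F) • u) ((n : F) * c) v := by
  induction n generalizing v with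
  | zero =>
    rw [pow_zero, Nat.cast_zero, zero_smul, zero_mul, ht_zero]
    exact one_mulVec v
  | succ n ih =>
    have hu2 : om ((n : F) • u) e = 0 := by rw [om_smul_left, hu, mul_zero]
    rw [pow_succ, coe_mul_mulVec, hg, ih, ht_ht hu2 hu, om_smul_right, om_self, mul_zero, add_zero]
    rw [Nat.cast_succ, add_smul, one_smul, add_mul, one_mul]

theorem isPGroup_heis (e : l ⊕ l → F) {p : ℕ} [CharP F p] : IsPGroup p (heis e) := by
  rintro ⟨g, u, c, hu, hg⟩
  refine ⟨1, ?_⟩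
  apply Subtype.ext
  apply ext_mulVec
  intro v
  show ((g ^ (p ^ 1) : symplecticGroup l F) : Matrix (l ⊕ l) (l ⊕ l) F) *ᵥ v = _
  rw [pow_ht hu c hg, pow_one, CharP.cast_eq_zero, zero_smul, zero_mul, ht_zero]
  exact (one_mulVec v).symm

theorem comm_heis (e : l ⊕ l → F) [CharP F 2] : ∀ a ∈ heis e, ∀ b ∈ heis e, a * b = b * a := by
  rintro a ⟨u, c, hu, ha⟩ b ⟨u', c', hu', hb⟩
  apply ext_mulVec
  intro v
  rw [coe_mul_mulVec, coe_mul_mulVec, hb, ha, ha, hb, ht_ht hu hu', ht_ht hu' hu, add_comm u u', add_comm c c']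
  have h2 : om u' u = om u u' := by rw [om_skew, CharTwo.neg_eq]
  rw [h2]

theorem conj_mem_heis {e : l ⊕ l → F} {x : symplecticGroup l F} (hx : (x : Matrix (l ⊕ l) (l ⊕ l) F) *ᵥ e = e)
    {k : symplecticGroup l F} {u : l ⊕ l → F} {c : F} (hu : om u e = 0)
    (hk : ∀ v, (k : Matrix (l ⊕ l) (l ⊕ l) F) *ᵥ v = ht e u c v) (v : l ⊕ l → F) :
    ((x * k * x⁻¹ : symplecticGroup l F) : Matrix (l ⊕ l) (l ⊕ l) F) *ᵥ v =
      ht e ((x : Matrix (l ⊕ l) (l ⊕ l) F) *ᵥ u) c v := by
  have key : ∀ w, (x : Matrix (l ⊕ l) (l ⊕ l) F) *ᵥ (ht e u c w) =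
      ht e ((x : Matrix (l ⊕ l) (l ⊕ l) F) *ᵥ u) c ((x : Matrix (l ⊕ l) (l ⊕ l) F) *ᵥ w) := by
    intro w
    rw [ht, ht, mulVec_add, mulVec_add, mulVec_add, mulVec_smul, mulVec_smul, mulVec_smul, hx, om_mulVec]
    have h1 : om ((x : Matrix (l ⊕ l) (l ⊕ l) F) *ᵥ w) e = om w e := by
      conv_lhs => rw [← hx]
      exact om_mulVec x w e
    rw [h1]
  rw [coe_mul_mulVec, coe_mul_mulVec, hk, key, ← coe_mul_mulVec x x⁻¹ v, mul_inv_cancel]
  congr 1
  exact one_mulVec v

theorem om_e_mulVec {e : l ⊕ l → F} {x : symplecticGroup l F} (hx : (x : Matrix (l ⊕ l) (l ⊕ l) F) *ᵥ e = e)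
    (u : l ⊕ l → F) : om ((x : Matrix (l ⊕ l) (l ⊕ l) F) *ᵥ u) e = om u e := by
  conv_lhs => rw [← hx]
  exact om_mulVec x u e

end

end SpH

end Cfsg.Agent.H80.Fpf
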