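import Cfsg.Agent.H80.Fpf.SpHeis
import Cfsg.Agent.H80.Fpf.RowL2
import Cfsg.Agent.H376.SpEmb
import Cfsg.Agent.H454.SpExt
import Cfsg.Agent.S0245
import Cfsg.Agent.S0246
import Cfsg.Agent.S0270
import Cfsg.Agent.S2092

/-!
# The row `PSp_2m(q)`
-/

set_option autoImplicit false
set_option linter.style.haveILetI false
set_option linter.unusedSectionVars false
set_option linter.unusedSimpArgs false
set_option linter.unusedVariables false

namespace Cfsg.Agent.H80.Fpf

open Matrix SpH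

/-- An element of a `p`-group in a kernel of order prime to `p` is trivial. -/
theorem eq_one_of_coprime {G : Type*} [Group G] {p : ℕ} (hp : p.Prime) {K Z : Subgroup G} (hK : IsPGroup p K)
    (hZ : ¬ p ∣ Nat.card Z) {z : G} (hzK : z ∈ K) (hzZ : z ∈ Z) : z = 1 := by
  obtain ⟨k, hk⟩ := hK ⟨z, hzK⟩
  have h1 : z ^ p ^ k = 1 := congrArg (fun y : K => (y : G)) hk
  have h2 : orderOf z ∣ p ^ k := orderOf_dvd_of_pow_eq_one h1
  have h3 : orderOf z ∣ Nat.card Z := Subgroup.orderOf_dvd_natCard _ hzZ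
  have h4 : Nat.Coprime (p ^ k) (Nat.card Z) := Nat.Coprime.pow_left _ ((Nat.Prime.coprime_iff_not_dvd hp).2 hZ)
  have h5 : orderOf z ∣ 1 := by
    have := Nat.dvd_gcd h2 h3
    rwa [h4] at this
  exact orderOf_eq_one_iff.1 (Nat.dvd_one.1 h5)

/-- The action criterion for a subgroup of a group mapping onto a simple group. -/
theorem not_may_of_act_cover {G : Type*} [Group G] [Finite G] {S : Type} [Group S] [Finite S] [IsSimpleGroup S]
    (π : G →* S) {p r : ℕ} (hp : p.Prime) (hr : r.Prime) (hr2 : r ≠ 2) (hpr : p ≠ r) (hkp : ¬ p ∣ Nat.card π.ker)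
    (hkr : ¬ r ∣ Nat.card π.ker) {K : Subgroup G} (hK : IsPGroup p K)
    (h2 : p = 2 → MultDvd S 1 ∧ ∀ a ∈ K, ∀ b ∈ K, a * b = b * a) {x : G} (hx : orderOf x = r)
    (hxK : ∀ y ∈ K, x * y * x⁻¹ ∈ K) {k : G} (hk : k ∈ K) (hne : x * k * x⁻¹ ≠ k) : ¬ May r S := by
  have hx' := orderOf_map_eq π hr hkr hx
  have hne' : π x * π k ≠ π k * π x := by
    intro h1
    apply hne
    have h3 : x * k * x⁻¹ * k⁻¹ ∈ π.ker := by
      rw [MonoidHom.mem_ker, map_mul, map_mul, map_mul, map_inv, map_inv, h1, mul_inv_cancel_right, mul_inv_cancel]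
    have h4 : x * k * x⁻¹ * k⁻¹ ∈ K := K.mul_mem (hxK k hk) (K.inv_mem hk)
    exact mul_inv_eq_one.1 (eq_one_of_coprime hp hK hkp h4 h3)
  by_cases hp2 : p = 2
  · obtain ⟨hm, hc⟩ := h2 hp2
    refine not_may_of_act_abelian hr hr2 hp hm (by intro h; exact hp.one_lt.ne' (Nat.dvd_one.1 h)) (K := K.map π) (hK.map _) ?_ hx' ?_
      (k := π k) ⟨k, hk, rfl⟩ hne'
    · rintro _ ⟨a, ha, rfl⟩ _ ⟨b, hb, rfl⟩
      rw [← map_mul, hc a ha b hb, map_mul]
    · rintro _ ⟨y, hy, rfl⟩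
      exact ⟨x * y * x⁻¹, hxK y hy, by rw [map_mul, map_mul, map_inv]⟩
  · refine not_may_of_act hr hr2 hp hpr (good_of_odd hp hp2 hr hr2) (K := K.map π) (hK.map _) hx' ?_
      (k := π k) ⟨k, hk, rfl⟩ hne'
    rintro _ ⟨y, hy, rfl⟩
    exact ⟨x * y * x⁻¹, hxK y hy, by rw [map_mul, map_mul, map_inv]⟩

section

variable {l : Type} [Fintype l] [DecidableEq l] {F : Type} [Field F] [Fintype F]

theorem eq_smul_of_add {V : Type*} [AddCommGroup V] [Module F V] {a b : F} (ha : a ≠ 0) {d e : V}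
    (h : a • d + b • e = 0) : d = (-(b / a)) • e := by
  have h1 : a • d = -(b • e) := eq_neg_of_add_eq_zero_left h
  calc d = a⁻¹ • (a • d) := by rw [smul_smul, inv_mul_cancel₀ ha, one_smul]
    _ = (-(b / a)) • e := by rw [h1, smul_neg, smul_smul, neg_smul, div_eq_inv_mul]

/-- Elements fixing a vector. -/
theorem not_may_of_fix {S : Type} [Group S] [Finite S] [IsSimpleGroup S]
    (π : symplecticGroup l F →* S) {p r : ℕ} [CharP F p] (hp : p.Prime) (hr : r.Prime) (hr2 : r ≠ 2) (hpr : p ≠ r)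
    (hkp : ¬ p ∣ Nat.card π.ker) (hkr : ¬ r ∣ Nat.card π.ker) (h2 : p = 2 → MultDvd S 1)
    {x : symplecticGroup l F} (hx : orderOf x = r) {e u : l ⊕ l → F}
    (hxe : (x : Matrix (l ⊕ l) (l ⊕ l) F) *ᵥ e = e) (hu : om u e = 0) (he : e ≠ 0)
    (hxu : ∀ c : F, (x : Matrix (l ⊕ l) (l ⊕ l) F) *ᵥ u - u ≠ c • e) : ¬ May r S := by
  refine not_may_of_act_cover π hp hr hr2 hpr hkp hkr (isPGroup_heis e) ?_ hx ?_ (k := hel e u hu 0)
    ⟨u, 0, hu, hel_mulVec e u hu 0⟩ ?_
  · rintro rfl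
    exact ⟨h2 rfl, comm_heis e⟩
  · rintro y ⟨w, c, hw, hy⟩
    exact ⟨_, c, by rw [om_e_mulVec hxe, hw], conj_mem_heis hxe hw hy⟩
  · intro h
    obtain ⟨v, hv⟩ := exists_om_ne_zero he
    have h1 := conj_mem_heis hxe hu (hel_mulVec e u hu 0) v
    rw [h, hel_mulVec] at h1
    rw [ht, ht] at h1
    apply hxu (-(om v ((x : Matrix (l ⊕ l) (l ⊕ l) F) *ᵥ u - u) / om v e))
    have h3 : om v e • ((x : Matrix (l ⊕ l) (l ⊕ l) F) *ᵥ u - u) + om v ((x : Matrix (l ⊕ l) (l ⊕ l) F) *ᵥ u - u) • e = 0 := by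
      rw [om_sub_right, smul_sub, sub_smul]
      have h4 := congrArg (fun z => z - (v + om v e • u + om v u • e + (0 * om v e) • e)) h1
      simp only [sub_self] at h4
      rw [h4]
      abel
    exact eq_smul_of_add hv h3

/-- The embedding of vectors. -/
def exv {α β : Type} (u : α ⊕ α → F) : (α ⊕ β) ⊕ (α ⊕ β) → F :=
  Sum.elim (Sum.elim (u ∘ Sum.inl) 0) (Sum.elim (u ∘ Sum.inr) 0)

/-- The first basis vector of the second block. -/
def e1v {α : Type} (β : Type) [DecidableEq β] (b : β) : (α ⊕ β) ⊕ (α ⊕ β) → F :=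
  Sum.elim (Sum.elim 0 (Pi.single b 1)) 0

theorem blkM_exv {α β : Type} [Fintype α] [DecidableEq α] [Fintype β] [DecidableEq β]
    (g : Matrix (α ⊕ α) (α ⊕ α) F) (u : α ⊕ α → F) :
    Cfsg.Agent.H376.SpEmb.blkM g (1 : Matrix (β ⊕ β) (β ⊕ β) F) *ᵥ exv u = exv (g *ᵥ u) := by
  obtain ⟨a, b, c, d, rfl⟩ : ∃ a b c d, g = fromBlocks a b c d :=
    ⟨_, _, _, _, (Matrix.fromBlocks_toBlocks g).symm⟩
  rw [Cfsg.Agent.H376.SpEmb.blkM, exv, exv,
    show (1 : Matrix (β ⊕ β) (β ⊕ β) F) = fromBlocks 1 0 0 1 from Matrix.fromBlocks_one.symm]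
  simp only [Matrix.toBlocks_fromBlocks₁₁,
      Matrix.toBlocks_fromBlocks₁₂, Matrix.toBlocks_fromBlocks₂₁, Matrix.toBlocks_fromBlocks₂₂,
      fromBlocks_mulVec, Sum.elim_comp_inl, Sum.elim_comp_inr, zero_mulVec, mulVec_zero, add_zero, zero_add]
  ext i
  rcases i with (i | i) | (i | i) <;> simp

theorem blkM_e1v {α β : Type} [Fintype α] [DecidableEq α] [Fintype β] [DecidableEq β]
    (g : Matrix (α ⊕ α) (α ⊕ α) F) (b₀ : β) :
    Cfsg.Agent.H376.SpEmb.blkM g (1 : Matrix (β ⊕ β) (β ⊕ β) F) *ᵥ e1v β b₀ = e1v β b₀ := by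
  obtain ⟨a, b, c, d, rfl⟩ : ∃ a b c d, g = fromBlocks a b c d :=
    ⟨_, _, _, _, (Matrix.fromBlocks_toBlocks g).symm⟩
  rw [Cfsg.Agent.H376.SpEmb.blkM, e1v,
    show (1 : Matrix (β ⊕ β) (β ⊕ β) F) = fromBlocks 1 0 0 1 from Matrix.fromBlocks_one.symm]
  simp only [Matrix.toBlocks_fromBlocks₁₁,
      Matrix.toBlocks_fromBlocks₁₂, Matrix.toBlocks_fromBlocks₂₁, Matrix.toBlocks_fromBlocks₂₂,
      fromBlocks_mulVec, Sum.elim_comp_inl, Sum.elim_comp_inr, zero_mulVec, mulVec_zero, add_zero, zero_add,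
      one_mulVec]
  ext i
  rcases i with (i | i) | (i | i) <;> simp [fromBlocks_mulVec]

theorem om_exv {α β : Type} [Fintype α] [DecidableEq α] [Fintype β] [DecidableEq β] (u : α ⊕ α → F) (b₀ : β) :
    om (exv u) (e1v β b₀ : (α ⊕ β) ⊕ (α ⊕ β) → F) = 0 := by
  rw [om, J, e1v, exv, fromBlocks_mulVec]
  simp only [Sum.elim_comp_inl, Sum.elim_comp_inr, zero_mulVec, neg_mulVec, one_mulVec, zero_add, add_zero,
    mulVec_zero, neg_zero]
  rw [sumElim_dotProduct_sumElim, dotProduct_zero, sumElim_dotProduct_sumElim]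
  simp

/-- Primes dividing `|Sp_{2m-2}(q)|`. -/
theorem not_may_blk {α β : Type} [Fintype α] [DecidableEq α] [Fintype β] [DecidableEq β] [Nonempty β]
    {S : Type} [Group S] [Finite S] [IsSimpleGroup S]
    (π : symplecticGroup (α ⊕ β) F →* S) {p r : ℕ} [CharP F p] (hp : p.Prime) (hr : r.Prime) (hr2 : r ≠ 2) (hpr : p ≠ r)
    (hkp : ¬ p ∣ Nat.card π.ker) (hkr : ¬ r ∣ Nat.card π.ker) (h2 : p = 2 → MultDvd S 1)
    (hd : r ∣ Nat.card (symplecticGroup α F)) : ¬ May r S := by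
  haveI : Fact r.Prime := ⟨hr⟩
  obtain ⟨y, hy⟩ := exists_prime_orderOf_dvd_card' r hd
  let x : symplecticGroup (α ⊕ β) F := Cfsg.Agent.H376.SpEmb.blk α β (y, 1)
  have hx : orderOf x = r := by
    rw [orderOf_injective _ (Cfsg.Agent.H376.SpEmb.blk_injective α β), Prod.orderOf_mk, hy, orderOf_one]
    exact Nat.lcm_one_right _
  obtain ⟨b₀⟩ := ‹Nonempty β›
  -- a moved vector
  obtain ⟨u, hu⟩ : ∃ u, (y : Matrix (α ⊕ α) (α ⊕ α) F) *ᵥ u ≠ u := by
    by_contra h
    push Not at h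
    have h1 : y = 1 := by
      apply ext_mulVec
      intro v
      rw [h v]
      exact (one_mulVec v).symm
    rw [h1, orderOf_one] at hy
    exact hr.one_lt.ne hy
  have hxm : (x : Matrix ((α ⊕ β) ⊕ (α ⊕ β)) ((α ⊕ β) ⊕ (α ⊕ β)) F) =
      Cfsg.Agent.H376.SpEmb.blkM (y : Matrix (α ⊕ α) (α ⊕ α) F) (1 : Matrix (β ⊕ β) (β ⊕ β) F) := rfl
  refine not_may_of_fix π hp hr hr2 hpr hkp hkr h2 hx (e := e1v β b₀) (u := exv u) ?_ (om_exv u b₀) ?_ ?_
  · rw [hxm, blkM_e1v]
  · intro h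
    have := congrFun h (Sum.inl (Sum.inr b₀))
    simp [e1v] at this
  · intro c h
    rw [hxm, blkM_exv] at h
    apply hu
    ext i
    rcases i with i | i
    · have := congrFun h (Sum.inl (Sum.inl i))
      simp [exv, e1v] at this
      exact sub_eq_zero.1 this
    · have := congrFun h (Sum.inr (Sum.inl i))
      simp [exv, e1v] at this
      exact sub_eq_zero.1 this

/-- The unipotent radical of the Siegel parabolic. -/
def radS (l : Type) [Fintype l] [DecidableEq l] (F : Type) [Field F] : Subgroup (symplecticGroup l F) where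
  carrier := {g | ∃ B : Matrix l l F, Bᵀ = B ∧ (g : Matrix (l ⊕ l) (l ⊕ l) F) = fromBlocks 1 B 0 1}
  one_mem' := ⟨0, transpose_zero, fromBlocks_one.symm⟩
  mul_mem' := by
    rintro g h ⟨B, hB, hg⟩ ⟨C, hC, hh⟩
    refine ⟨C + B, by rw [transpose_add, hB, hC], ?_⟩
    show (g : Matrix (l ⊕ l) (l ⊕ l) F) * (h : Matrix (l ⊕ l) (l ⊕ l) F) = _
    rw [hg, hh, fromBlocks_multiply]
    simp
  inv_mem' := by
    rintro g ⟨B, hB, hg⟩
    refine ⟨-B, by rw [transpose_neg, hB], ?_⟩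
    have h3 : ((g⁻¹ : symplecticGroup l F) : Matrix (l ⊕ l) (l ⊕ l) F) * (g : Matrix (l ⊕ l) (l ⊕ l) F) = 1 := by
      have := congrArg (fun z : symplecticGroup l F => (z : Matrix (l ⊕ l) (l ⊕ l) F)) (inv_mul_cancel g)
      exact this
    have h4 : (g : Matrix (l ⊕ l) (l ⊕ l) F) * fromBlocks 1 (-B) 0 1 = 1 := by
      rw [hg, fromBlocks_multiply]
      simp [fromBlocks_one]
    calc ((g⁻¹ : symplecticGroup l F) : Matrix (l ⊕ l) (l ⊕ l) F)
        = ((g⁻¹ : symplecticGroup l F) : Matrix (l ⊕ l) (l ⊕ l) F) * ((g : Matrix (l ⊕ l) (l ⊕ l) F) * fromBlocks 1 (-B) 0 1) := by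
          rw [h4, mul_one]
      _ = fromBlocks 1 (-B) 0 1 := by rw [← mul_assoc, h3, one_mul]

theorem isPGroup_radS {p : ℕ} [CharP F p] : IsPGroup p (radS l F) := by
  rintro ⟨g, B, hB, hg⟩
  refine ⟨1, ?_⟩
  apply Subtype.ext
  apply Subtype.ext
  have key : ∀ n : ℕ, ((g ^ n : symplecticGroup l F) : Matrix (l ⊕ l) (l ⊕ l) F) = fromBlocks 1 ((n : F) • B) 0 1 := by
    intro n
    induction n with
    | zero => simp [fromBlocks_one]
    | succ n ih =>
      rw [pow_succ]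
      show ((g ^ n : symplecticGroup l F) : Matrix (l ⊕ l) (l ⊕ l) F) * (g : Matrix (l ⊕ l) (l ⊕ l) F) = _
      rw [ih, hg, fromBlocks_multiply, Nat.cast_succ, add_smul, one_smul]
      simp [add_comm]
  show ((g ^ (p ^ 1) : symplecticGroup l F) : Matrix (l ⊕ l) (l ⊕ l) F) = 1
  rw [key, pow_one, CharP.cast_eq_zero, zero_smul, fromBlocks_one]

theorem comm_radS : ∀ a ∈ radS l F, ∀ b ∈ radS l F, a * b = b * a := by
  rintro a ⟨B, hB, ha⟩ b ⟨C, hC, hb⟩
  apply Subtype.ext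
  show (a : Matrix (l ⊕ l) (l ⊕ l) F) * (b : Matrix (l ⊕ l) (l ⊕ l) F) = (b : Matrix (l ⊕ l) (l ⊕ l) F) * (a : Matrix (l ⊕ l) (l ⊕ l) F)
  rw [ha, hb, fromBlocks_multiply, fromBlocks_multiply]
  simp [add_comm]

theorem levi_conj (A : GL l F) {g : symplecticGroup l F} {B : Matrix l l F}
    (hg : (g : Matrix (l ⊕ l) (l ⊕ l) F) = fromBlocks 1 B 0 1) :
    ((Cfsg.Agent.H376.SpEmb.levi l A * g * (Cfsg.Agent.H376.SpEmb.levi l A)⁻¹ : symplecticGroup l F) : Matrix (l ⊕ l) (l ⊕ l) F) =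
      fromBlocks 1 ((A : Matrix l l F) * B * (A : Matrix l l F)ᵀ) 0 1 := by
  rw [← map_inv]
  show fromBlocks (A : Matrix l l F) 0 0 ((A⁻¹ : GL l F) : Matrix l l F)ᵀ * (g : Matrix (l ⊕ l) (l ⊕ l) F) *
    fromBlocks ((A⁻¹ : GL l F) : Matrix l l F) 0 0 ((A⁻¹⁻¹ : GL l F) : Matrix l l F)ᵀ = _
  rw [hg, fromBlocks_multiply, fromBlocks_multiply, inv_inv]
  have h1 : (A : Matrix l l F) * ((A⁻¹ : GL l F) : Matrix l l F) = 1 := by
    rw [← Units.val_mul, mul_inv_cancel, Units.val_one]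
  have h2 : ((A⁻¹ : GL l F) : Matrix l l F)ᵀ * (A : Matrix l l F)ᵀ = 1 := by
    rw [← transpose_mul, h1, transpose_one]
  simp only [mul_one, mul_zero, add_zero, zero_add, zero_mul, Matrix.mul_one, Matrix.mul_zero, Matrix.zero_mul, h1, h2]

/-- Primes dividing `|GL_m(q)|`. -/
theorem not_may_levi {S : Type} [Group S] [Finite S] [IsSimpleGroup S]
    (π : symplecticGroup l F →* S) {p r : ℕ} [CharP F p] (hp : p.Prime) (hr : r.Prime) (hr2 : r ≠ 2) (hpr : p ≠ r)
    (hkp : ¬ p ∣ Nat.card π.ker) (hkr : ¬ r ∣ Nat.card π.ker) (h2 : p = 2 → MultDvd S 1)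
    (hd : r ∣ Nat.card (GL l F)) : ¬ May r S := by
  haveI : Fact r.Prime := ⟨hr⟩
  obtain ⟨A, hA⟩ := exists_prime_orderOf_dvd_card' r hd
  have hx : orderOf (Cfsg.Agent.H376.SpEmb.levi l A) = r := by
    rw [orderOf_injective _ (Cfsg.Agent.H376.SpEmb.levi_injective l), hA]
  -- a moved symmetric matrix
  obtain ⟨B, hB, hAB⟩ : ∃ B : Matrix l l F, Bᵀ = B ∧ (A : Matrix l l F) * B * (A : Matrix l l F)ᵀ ≠ B := by
    by_contra h
    push Not at h
    have hent : ∀ i j k : l, (A : Matrix l l F) j i * (A : Matrix l l F) k i = if j = i ∧ k = i then 1 else 0 := by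
      intro i j k
      have h1 := h (Matrix.single i i 1) (by rw [transpose_single])
      have h3 := congrFun (congrFun h1 j) k
      rw [Matrix.mul_apply, Finset.sum_eq_single i] at h3
      · rw [Matrix.mul_apply, Finset.sum_eq_single i] at h3
        · rw [Matrix.single_apply_same, mul_one, transpose_apply] at h3
          rw [h3, Matrix.single_apply]
          simp [eq_comm]
        · intro b _ hb
          rw [Matrix.single_apply_of_row_ne (hi := hb.symm), mul_zero]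
        · intro h4; exact absurd (Finset.mem_univ _) h4
      · intro b _ hb
        rw [Matrix.mul_apply, Finset.sum_eq_zero, zero_mul]
        intro c _
        rw [Matrix.single_apply_of_col_ne (hj := hb.symm), mul_zero]
      · intro h4; exact absurd (Finset.mem_univ _) h4
    have hA2 : A ^ 2 = 1 := by
      apply Units.ext
      rw [Units.val_pow_eq_pow_val, Units.val_one, sq]
      ext i j
      rw [Matrix.mul_apply, Finset.sum_eq_single j, Matrix.one_apply]
      · have hjj := hent j j j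
        rw [if_pos ⟨rfl, rfl⟩] at hjj
        by_cases hij : i = j
        · subst hij
          rw [if_pos rfl, hjj]
        · have h3 := hent j i i
          rw [if_neg (by rintro ⟨h4, -⟩; exact hij h4)] at h3
          rw [if_neg hij, mul_self_eq_zero.1 h3, zero_mul]
      · intro k _ hk
        have h3 := hent j k k
        rw [if_neg (by rintro ⟨h4, -⟩; exact hk h4)] at h3
        rw [mul_self_eq_zero.1 h3, mul_zero]
      · intro h4; exact absurd (Finset.mem_univ _) h4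
    have h3 : r ∣ 2 := by rw [← hA]; exact orderOf_dvd_of_pow_eq_one hA2
    exact hr2 ((Nat.prime_dvd_prime_iff_eq hr Nat.prime_two).1 h3)
  let k : symplecticGroup l F := ⟨fromBlocks 1 B 0 1, by
    rw [SymplecticGroup.fromBlocks_mem_iff]
    simp [hB]⟩
  refine not_may_of_act_cover π hp hr hr2 hpr hkp hkr (isPGroup_radS (l := l) (F := F)) ?_ hx ?_ (k := k) ⟨B, hB, rfl⟩ ?_
  · rintro rfl
    exact ⟨h2 rfl, comm_radS⟩
  · rintro y ⟨C, hC, hy⟩
    refine ⟨_, ?_, levi_conj A hy⟩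
    rw [transpose_mul, transpose_mul, transpose_transpose, hC, Matrix.mul_assoc]
  · intro h
    have h1 := levi_conj A (g := k) (B := B) rfl
    rw [h] at h1
    exact hAB (fromBlocks_inj.1 h1).2.1.symm

/-- Of two odd primes dividing `|K| + 1` the smaller one is excluded for `PSL_2(K)`. -/
theorem not_may_add_one {K : Type} [Field K] [Fintype K] (h : 3 < Fintype.card K) {r s : ℕ} (hr : r.Prime)
    (hr2 : r ≠ 2) (hs : s.Prime) (hs2 : s ≠ 2) (hrs : r < s) (hrd : r ∣ Fintype.card K + 1)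
    (hsd : s ∣ Fintype.card K + 1) : ¬ May r (Matrix.ProjectiveSpecialLinearGroup (Fin 2) K) := by
  have h4 : r * s ∣ Fintype.card K + 1 := by
    apply Nat.Coprime.mul_dvd_of_dvd_of_dvd _ hrd hsd
    exact (Nat.coprime_primes hr hs).2 hrs.ne
  have hr3 : 3 ≤ r := by have := hr.two_le; omega
  have hs5 : 5 ≤ s := by
    have h6 : s ≠ 4 := by rintro rfl; exact absurd hs (by decide)
    omega
  have h15 : 15 ≤ Fintype.card K + 1 := by
    calc 15 = 3 * 5 := rfl
      _ ≤ r * s := Nat.mul_le_mul hr3 hs5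
      _ ≤ _ := Nat.le_of_dvd (by omega) h4
  obtain ⟨l, hl⟩ := CharP.exists K
  haveI := hl
  obtain ⟨n, hlp, hn⟩ := FiniteField.card K l
  by_cases hl2 : l = 2
  · subst hl2
    exact not_may_even (by omega) hr hr2 hs hrs hrd hsd
  · have hodd : Odd (Fintype.card K) := by
      rw [hn]
      exact (hlp.odd_of_ne_two hl2).pow
    exact not_may_odd (by omega) hodd (by omega) hr hr2 hs hs2 hrs hrd hsd

/-- Restriction to `SL_2(q^m)`. -/
theorem may_psl2_of_psp {K : Type} [Field K] [Fintype K] {m : ℕ} (hm : m ≠ 0)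
    (hK : Fintype.card K = Fintype.card F ^ m) (h3 : 3 < Fintype.card K) {r : ℕ} (h : May r (Cfsg.PSp m F)) :
    May r (Matrix.ProjectiveSpecialLinearGroup (Fin 2) K) := by
  obtain ⟨φ, hφ⟩ := Cfsg.Agent.H454.SpExt.exists_sl_two (K := K) (F := F) hm hK rfl
  refine h.of_hom ((QuotientGroup.mk' (Subgroup.center (Matrix.symplecticGroup (Fin m) F))).comp φ) (pr K)
    pr_surjective ker_pr.le ?_ (isCover_pr h3).perf
  intro z hz
  rw [MonoidHom.mem_ker, MonoidHom.comp_apply] at hz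
  have hz1 : φ z ∈ Subgroup.center (Matrix.symplecticGroup (Fin m) F) := (QuotientGroup.eq_one_iff _).1 hz
  rw [ker_pr, Subgroup.mem_center_iff]
  intro g
  apply hφ
  rw [map_mul, map_mul]
  exact Subgroup.mem_center_iff.1 hz1 _

theorem reidx_surjective {α β : Type} [Fintype α] [DecidableEq α] [Fintype β] [DecidableEq β] (e : α ≃ β) :
    Function.Surjective (Cfsg.Agent.H376.SpEmb.reidx (F := F) e) := by
  intro g
  refine ⟨Cfsg.Agent.H376.SpEmb.reidx e.symm g, ?_⟩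
  apply Subtype.ext
  show ((g : Matrix (β ⊕ β) (β ⊕ β) F).submatrix (Equiv.sumCongr e.symm e.symm).symm (Equiv.sumCongr e.symm e.symm).symm).submatrix
    (Equiv.sumCongr e e).symm (Equiv.sumCongr e e).symm = g
  ext i j
  rcases i with i | i <;> rcases j with j | j <;> simp

/-- The projection from the reindexed symplectic group. -/
noncomputable def prS {α : Type} [Fintype α] [DecidableEq α] {m : ℕ} (e : α ≃ Fin m) (F : Type) [Field F] :
    Matrix.symplecticGroup α F →* Cfsg.PSp m F :=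
  (QuotientGroup.mk' (Subgroup.center (Matrix.symplecticGroup (Fin m) F))).comp (Cfsg.Agent.H376.SpEmb.reidx e)

theorem card_ker_prS {α : Type} [Fintype α] [DecidableEq α] {m : ℕ} (hm : 1 ≤ m) (e : α ≃ Fin m) :
    Nat.card (prS e F).ker = Nat.gcd 2 (Fintype.card F - 1) := by
  rw [← Cfsg.Agent.S0246.result (F := F) rfl m hm]
  have h1 : (prS e F).ker = (Subgroup.center (Matrix.symplecticGroup (Fin m) F)).comap (Cfsg.Agent.H376.SpEmb.reidx e) := by
    ext z
    rw [MonoidHom.mem_ker, Subgroup.mem_comap]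
    exact QuotientGroup.eq_one_iff _
  rw [h1]
  let E := MulEquiv.ofBijective (Cfsg.Agent.H376.SpEmb.reidx (F := F) e)
    ⟨Cfsg.Agent.H376.SpEmb.reidx_injective e, reidx_surjective e⟩
  exact Nat.card_congr (E.toEquiv.subtypeEquiv (fun z => Iff.rfl))

/-- **The row `PSp_2m(q)`.** -/
theorem row_psp {S : Type} [Group S] (h : Cfsg.IsPSp S) : Row S := by
  obtain ⟨F, _, _, m, hm, hm2, ⟨e⟩⟩ := h
  refine Row.of_equiv e.symm ?_
  haveI hsimple : IsSimpleGroup (Cfsg.PSp m F) := Cfsg.Agent.S0270.result m hm hm2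
  obtain ⟨p, hpc⟩ := CharP.exists F
  haveI := hpc
  obtain ⟨n, hpp, hn⟩ := FiniteField.card F p
  obtain ⟨a, rfl⟩ : ∃ a, m = a + 1 := ⟨m - 1, by omega⟩
  have hq2 : 2 ≤ Fintype.card F := Fintype.one_lt_card
  have hpq : p ∣ Fintype.card F := by rw [hn]; exact dvd_pow_self _ n.2.ne'
  have hgcd : ∀ r : ℕ, r.Prime → r ≠ 2 → ¬ r ∣ Nat.gcd 2 (Fintype.card F - 1) := by
    intro r hr hr2 h
    exact hr2 ((Nat.prime_dvd_prime_iff_eq hr Nat.prime_two).1 (h.trans (Nat.gcd_dvd_left _ _)))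
  have hgcdp : ¬ p ∣ Nat.gcd 2 (Fintype.card F - 1) := by
    intro h
    have h1 : p ∣ Fintype.card F - 1 := h.trans (Nat.gcd_dvd_right _ _)
    have h2 : p ∣ 1 := by
      have h3 : Fintype.card F = (Fintype.card F - 1) + 1 := by omega
      rw [h3] at hpq
      exact (Nat.dvd_add_right h1).1 hpq
    exact hpp.one_lt.ne' (Nat.dvd_one.1 h2)
  -- prime divisors
  have hdvd : ∀ r : ℕ, r.Prime → r ∣ Nat.card (Cfsg.PSp (a + 1) F) →
      r = p ∨ r ∣ Nat.card (Matrix.symplecticGroup (Fin a) F) ∨ r ∣ Fintype.card F ^ (a + 1) - 1 ∨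
        r ∣ Fintype.card F ^ (a + 1) + 1 := by
    intro r hr hd
    have hd1 : r ∣ Nat.card (Matrix.symplecticGroup (Fin (a + 1)) F) :=
      hd.trans (Subgroup.card_quotient_dvd_card _)
    rw [Cfsg.Agent.S0245.result (F := F) rfl, Finset.prod_range_succ, ← mul_assoc] at hd1
    rcases hr.dvd_mul.1 hd1 with h1 | h1
    · rcases hr.dvd_mul.1 h1 with h2 | h2
      · left
        have h3 := hr.dvd_of_dvd_pow h2
        rw [hn] at h3
        exact (Nat.prime_dvd_prime_iff_eq hr hpp).1 (hr.dvd_of_dvd_pow h3)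
      · right; left
        rw [Cfsg.Agent.S0245.result (F := F) rfl]
        exact h2.mul_left _
    · right; right
      have h2 : Fintype.card F ^ (2 * (a + 1)) - 1 = (Fintype.card F ^ (a + 1) + 1) * (Fintype.card F ^ (a + 1) - 1) := by
        have := Nat.sq_sub_sq (Fintype.card F ^ (a + 1)) 1
        rw [one_pow, ← pow_mul, mul_comm (a + 1) 2] at this
        exact this
      rw [h2] at h1
      rcases hr.dvd_mul.1 h1 with h3 | h3
      · exact Or.inr h3
      · exact Or.inl h3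
  by_cases hexc : a + 1 = 3 ∧ Fintype.card F = 2
  · -- `Sp_6(2)`
    obtain ⟨ha, hF2⟩ := hexc
    obtain rfl : a = 2 := by omega
    have hprimes : ∀ r : ℕ, r.Prime → r ≠ 2 → r ∣ Nat.card (Cfsg.PSp (2 + 1) F) → r = 3 ∨ r = 5 ∨ r = 7 := by
      intro r hr hr2 hd
      have hd1 : r ∣ Nat.card (Matrix.symplecticGroup (Fin (2 + 1)) F) :=
        hd.trans (Subgroup.card_quotient_dvd_card _)
      rw [Cfsg.Agent.S0245.result (F := F) rfl, hF2] at hd1
      have h1 : 2 ^ ((2 + 1) ^ 2) * ∏ i ∈ Finset.range (2 + 1), (2 ^ (2 * (i + 1)) - 1) = 2 ^ 9 * (3 ^ 4 * (5 * 7)) := by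
        decide
      rw [h1] at hd1
      rcases hr.dvd_mul.1 hd1 with h2 | h2
      · exact absurd ((Nat.prime_dvd_prime_iff_eq hr Nat.prime_two).1 (hr.dvd_of_dvd_pow h2)) hr2
      · rcases hr.dvd_mul.1 h2 with h3 | h3
        · exact Or.inl ((Nat.prime_dvd_prime_iff_eq hr Nat.prime_three).1 (hr.dvd_of_dvd_pow h3))
        · rcases hr.dvd_mul.1 h3 with h4 | h4
          · exact Or.inr (Or.inl ((Nat.prime_dvd_prime_iff_eq hr Nat.prime_five).1 h4))
          · exact Or.inr (Or.inr ((Nat.prime_dvd_prime_iff_eq hr (by norm_num)).1 h4))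
    have hnot3 : ¬ May 3 (Cfsg.PSp (2 + 1) F) := by
      haveI : Fact (Nat.Prime 3) := ⟨Nat.prime_three⟩
      have hc1 : 3 ∣ Nat.card (Matrix.symplecticGroup (Fin 1) F) := by
        rw [Cfsg.Agent.S0245.result (F := F) rfl, hF2]; decide
      have hc2 : 3 ∣ Nat.card (Matrix.symplecticGroup (Fin 2) F) := by
        rw [Cfsg.Agent.S0245.result (F := F) rfl, hF2]; decide
      obtain ⟨y, hy⟩ := exists_prime_orderOf_dvd_card' 3 hc1
      obtain ⟨z, hz⟩ := exists_prime_orderOf_dvd_card' 3 hc2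
      let φ : Matrix.symplecticGroup (Fin 2) F × Matrix.symplecticGroup (Fin 1) F →* Cfsg.PSp (2 + 1) F :=
        (prS finSumFinEquiv F).comp (Cfsg.Agent.H376.SpEmb.blk (Fin 2) (Fin 1))
      have hker : (prS (finSumFinEquiv : Fin 2 ⊕ Fin 1 ≃ Fin (2 + 1)) F).ker = ⊥ := by
        rw [← Subgroup.card_eq_one, card_ker_prS (by norm_num), hF2]
        rfl
      have hφ : Function.Injective φ := by
        intro g h hgh
        exact Cfsg.Agent.H376.SpEmb.blk_injective _ _ (((MonoidHom.ker_eq_bot_iff _).1 hker) hgh)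
      have hy1 : y ≠ 1 := by
        rintro rfl
        rw [orderOf_one] at hy
        omega
      refine not_may_of_comm (a := φ (z, 1)) (b := φ (1, y)) Nat.prime_three (by norm_num) ?_ ?_ ?_ ?_
      · rw [← map_mul, ← map_mul, Prod.mk_mul_mk, Prod.mk_mul_mk, one_mul, mul_one, mul_one, one_mul]
      · rw [orderOf_injective _ hφ, Prod.orderOf_mk, hz, orderOf_one]; rfl
      · rw [orderOf_injective _ hφ, Prod.orderOf_mk, hy, orderOf_one]; rfl
      · rintro ⟨k, hk⟩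
        have h1 : φ ((z, 1) ^ k) = φ (1, y) := by
          rw [map_zpow]; exact hk
        have h2 := congrArg Prod.snd (hφ h1)
        rw [Prod.pow_snd] at h2
        simp only [_root_.one_zpow] at h2
        exact hy1 h2.symm
    refine ⟨5, 7, ?_⟩
    intro r hr hr2 hd hM
    rcases hprimes r hr hr2 hd with h | h | h
    · subst h
      exact absurd hM hnot3
    · exact Or.inl h
    · exact Or.inr h
  -- general case
  have hmult : MultDvd (Cfsg.PSp (a + 1) F) (Nat.gcd 2 (Fintype.card F - 1)) :=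
    multDvd_of_cyclic (Nat.gcd_pos_of_pos_left _ (by norm_num)).ne' (Cfsg.Agent.S2092.result rfl _ hm hm2 hexc)
  have h2 : p = 2 → MultDvd (Cfsg.PSp (a + 1) F) 1 := by
    rintro rfl
    have h1 : Nat.gcd 2 (Fintype.card F - 1) = 1 := (Nat.Prime.coprime_iff_not_dvd Nat.prime_two).2 (by omega)
    rwa [h1] at hmult
  have hno : ∀ r : ℕ, r.Prime → r ≠ 2 → r ≠ p →
      (r ∣ Nat.card (Matrix.symplecticGroup (Fin a) F) ∨ r ∣ Fintype.card F ^ (a + 1) - 1) → ¬ May r (Cfsg.PSp (a + 1) F) := by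
    intro r hr hr2 hrp hd
    rcases hd with hd | hd
    · refine not_may_blk (prS (finSumFinEquiv : Fin a ⊕ Fin 1 ≃ Fin (a + 1)) F) hpp hr hr2 hrp.symm ?_ ?_ h2 hd
      · rw [card_ker_prS (by omega)]; exact hgcdp
      · rw [card_ker_prS (by omega)]; exact hgcd r hr hr2
    · refine not_may_levi (prS (Equiv.refl (Fin (a + 1))) F) hpp hr hr2 hrp.symm ?_ ?_ h2 ?_
      · rw [card_ker_prS (by omega)]; exact hgcdp
      · rw [card_ker_prS (by omega)]; exact hgcd r hr hr2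
      · rw [Matrix.card_GL_field]
        refine hd.trans ?_
        have h3 := Finset.dvd_prod_of_mem (fun i : Fin (a + 1) => Fintype.card F ^ (a + 1) - Fintype.card F ^ (i : ℕ))
          (Finset.mem_univ (0 : Fin (a + 1)))
        simpa using h3
  -- the field of order `q ^ m`
  haveI : Fact p.Prime := ⟨hpp⟩
  let K := GaloisField p (n * (a + 1))
  haveI : Fintype K := Fintype.ofFinite K
  have hK : Fintype.card K = Fintype.card F ^ (a + 1) := by
    have hK1 : Nat.card K = p ^ ((n : ℕ) * (a + 1)) :=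
      GaloisField.card p ((n : ℕ) * (a + 1)) (Nat.mul_ne_zero n.2.ne' (Nat.succ_ne_zero a))
    rw [← Nat.card_eq_fintype_card, hK1, hn, pow_mul]
  have hK3 : 3 < Fintype.card K := by
    rw [hK]
    by_cases ha : a + 1 = 2
    · have h3 := hm2 ha
      rw [ha]
      nlinarith
    · calc 3 < 2 ^ 3 := by norm_num
        _ ≤ Fintype.card F ^ 3 := Nat.pow_le_pow_left hq2 3
        _ ≤ Fintype.card F ^ (a + 1) := Nat.pow_le_pow_right (by omega) (by omega)
  have key : ∀ r s : ℕ, r.Prime → r ≠ 2 → s.Prime → s ≠ 2 → r < s → r ∣ Fintype.card F ^ (a + 1) + 1 →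
      s ∣ Fintype.card F ^ (a + 1) + 1 → ¬ May r (Cfsg.PSp (a + 1) F) := by
    intro r s hr hr2 hs hs2 hrs hrd hsd hM
    rw [← hK] at hrd hsd
    exact not_may_add_one hK3 hr hr2 hs hs2 hrs hrd hsd (may_psl2_of_psp (by omega) hK hK3 hM)
  by_cases hex : ∃ b : ℕ, b.Prime ∧ b ≠ 2 ∧ b ∣ Fintype.card F ^ (a + 1) + 1 ∧ May b (Cfsg.PSp (a + 1) F)
  · obtain ⟨b, hb, hb2, hbd, hbM⟩ := hex
    refine ⟨p, b, ?_⟩
    intro r hr hr2 hd hM
    by_cases hrp : r = p
    · exact Or.inl hrp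
    rcases hdvd r hr hd with h1 | h1 | h1 | h1
    · exact Or.inl h1
    · exact absurd hM (hno r hr hr2 hrp (Or.inl h1))
    · exact absurd hM (hno r hr hr2 hrp (Or.inr h1))
    · right
      by_contra hne
      rcases Nat.lt_or_gt_of_ne hne with h3 | h3
      · exact key r b hr hr2 hb hb2 h3 h1 hbd hM
      · exact key b r hb hb2 hr hr2 h3 hbd h1 hbM
  · refine ⟨p, p, ?_⟩
    intro r hr hr2 hd hM
    by_cases hrp : r = p
    · exact Or.inl hrp
    rcases hdvd r hr hd with h1 | h1 | h1 | h1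
    · exact Or.inl h1
    · exact absurd hM (hno r hr hr2 hrp (Or.inl h1))
    · exact absurd hM (hno r hr hr2 hrp (Or.inr h1))
    · exact absurd ⟨r, hr, hr2, h1, hM⟩ hex

end

end Cfsg.Agent.H80.Fpf
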