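import Cfsg.Agent.H80.Fpf.Reduce
import Cfsg.Agent.H80.FpfB.Baby
import Cfsg.Agent.H80.Fpf.RowL2
import Cfsg.Agent.H80.Fpf.RowSp
import Cfsg.Agent.H80.Fpf.RowAlt
import Cfsg.Agent.H517.Fpf.Psl
import Cfsg.Agent.H700.FpfPsu.Main
import Cfsg.Agent.H97.FpfRows
import Cfsg.Agent.H522.FpfRowPlus
import Cfsg.Agent.H701.FpfG2
import Cfsg.Agent.H701.Fpf3D4
import Cfsg.Agent.H966.Fpf.RowF4
import Cfsg.Agent.H631.Fpf.RowE6
import Cfsg.Agent.H631.Fpf.RowTwE6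
import Cfsg.Agent.H111.Fpf.SevenRow
import Cfsg.Agent.H111.Fpf.EightRow
import Cfsg.Agent.H344.FpfSz
import Cfsg.Agent.H497.Fpf.Ree
import Cfsg.Agent.H84.FpfTwF
import Cfsg.Agent.H352.Fpf.Tits
import Cfsg.Agent.H682.Fpf.HnRow
import Cfsg.Agent.H682.Fpf.ThRow
import Cfsg.Agent.H51.Fpf.Ru
import Cfsg.Agent.H51.Fpf.ON
import Cfsg.Agent.H51.Fpf.Ly
import Cfsg.Agent.H215.Fpf.JFour
import Cfsg.Agent.H844.Fpf.RowsA
import Cfsg.Agent.H844.Fpf.RowsB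
import Cfsg.Agent.H844.Fpf.RowsM
import Cfsg.Agent.H844.Fpf.RowJThree
import Cfsg.Agent.H844.Fpf.RowSuz
import Cfsg.Agent.H844.Fpf.RowCoOne
import Cfsg.Agent.H844.Fpf.RowsFi
import Cfsg.Agent.H844.Fpf.RowFiFour

/-!
# All rows
-/

set_option autoImplicit false
set_option linter.style.haveILetI false

namespace Cfsg.Agent.H80.Fpf

/-- All rows, from those of the Baby Monster and the Monster. -/
theorem all_rows (hM : Row Cfsg.Spor.Monster) {S : Type} [Group S] [Finite S]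
    [IsSimpleGroup S] (h : Cfsg.IsKnownSimple' S) : Row S := by
  rcases h with h | h | h | h | h | h | h | h | h | h
  · exact row_of_prime h
  · exact Alt.row_alt h
  · obtain ⟨F, _, _, n, hn, h2, ⟨e⟩⟩ := h
    refine Row.of_equiv e.symm ?_
    by_cases hn2 : n = 2
    · subst hn2
      exact row_psl2 (h2 rfl)
    · exact Cfsg.Agent.H517.FpfPsl.row_psln n (by omega)
  · exact row_psp h
  · obtain ⟨F, _, _, n, q, hF, hn, h3, ⟨e⟩⟩ := h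
    exact Row.of_equiv e.symm (Cfsg.Agent.H700.FpfPsu.row_psu n q hF hn h3)
  · obtain ⟨F, _, _, m, hm, ho, ⟨e⟩⟩ := h
    exact Row.of_equiv e.symm (Cfsg.Agent.H97.FpfO.row_odd m hm ho)
  · obtain ⟨F, _, _, m, hm, ⟨e⟩⟩ := h
    exact Row.of_equiv e.symm (Cfsg.Agent.H522.FpfRowPlus.row_plus m hm)
  · obtain ⟨F, _, _, m, a, b, hm, hab, ⟨e⟩⟩ := h
    exact Row.of_equiv e.symm (Cfsg.Agent.H97.FpfO.row_minus m hm a b hab)
  · rcases h with h | h | h | h | h | h | h | h | h | h | h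
    · obtain ⟨F, _, _, hF, ⟨e⟩⟩ := h
      exact Row.of_equiv e.symm (Cfsg.Agent.H701.FpfG2.row_G2 hF)
    · obtain ⟨F, _, _, ⟨e⟩⟩ := h
      exact Row.of_equiv e.symm Cfsg.Agent.H966.Fpf.RowF4.row_F4
    · obtain ⟨F, _, _, ⟨e⟩⟩ := h
      exact Row.of_equiv e.symm Cfsg.Agent.H631.Fpf.row_E6
    · obtain ⟨F, _, _, ⟨e⟩⟩ := h
      exact Row.of_equiv e.symm Cfsg.Agent.H111.Fpf.row_E7
    · obtain ⟨F, _, _, ⟨e⟩⟩ := h
      exact Row.of_equiv e.symm Cfsg.Agent.H111.Fpf.row_E8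
    · obtain ⟨K, _, _, q, hq, hK, ⟨e⟩⟩ := h
      exact Row.of_equiv e.symm (Cfsg.Agent.H631.Fpf.row_2E6 hq hK)
    · obtain ⟨K, _, _, q, hq, hK, ⟨e⟩⟩ := h
      exact Row.of_equiv e.symm (Cfsg.Agent.H701.Fpf3D4.row_3D4 hq hK)
    · exact Cfsg.Agent.H344.FpfSz.row_Sz h
    · exact Cfsg.Agent.H497.Fpf.row_Ree h
    · exact Cfsg.Agent.H84.FpfTwF.row_2F4 h
    · exact Cfsg.Agent.H352.Fpf.row_Tits h
  · rcases h with h | h | h | h | h | h | h | h | h | h | h | h | h | h | h | h | h | h | h | h | h | h | h | h | h | h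
    · exact Cfsg.Agent.H844.Fpf.row_m11 h
    · exact Cfsg.Agent.H844.Fpf.row_m12 h
    · exact Cfsg.Agent.H844.Fpf.row_m22 h
    · exact Cfsg.Agent.H844.Fpf.row_m23 h
    · exact Cfsg.Agent.H844.Fpf.row_m24 h
    · exact Cfsg.Agent.H844.Fpf.row_j1 h
    · exact Cfsg.Agent.H844.Fpf.row_j2 h
    · exact Cfsg.Agent.H844.Fpf.row_j3 h
    · obtain ⟨e⟩ := h
      exact Row.of_equiv e.symm Cfsg.Agent.H215.Fpf.JFour.row_j4
    · exact Cfsg.Agent.H844.Fpf.row_co1 h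
    · exact Cfsg.Agent.H844.Fpf.row_co2 h
    · exact Cfsg.Agent.H844.Fpf.row_co3 h
    · exact Cfsg.Agent.H844.Fpf.row_mcl h
    · exact Cfsg.Agent.H844.Fpf.row_hs h
    · exact Cfsg.Agent.H844.Fpf.row_suz h
    · exact Cfsg.Agent.H844.Fpf.row_he h
    · obtain ⟨e⟩ := h
      exact Row.of_equiv e.symm Cfsg.Agent.H51.Fpf.Ru.row_ru
    · obtain ⟨e⟩ := h
      exact Row.of_equiv e.symm Cfsg.Agent.H51.Fpf.ON.row_on
    · obtain ⟨e⟩ := h
      exact Row.of_equiv e.symm Cfsg.Agent.H51.Fpf.Ly.row_ly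
    · exact Cfsg.Agent.H844.Fpf.row_fi22 h
    · exact Cfsg.Agent.H844.Fpf.row_fi23 h
    · exact Cfsg.Agent.H844.Fpf.row_fi24 h
    · obtain ⟨e⟩ := h
      exact Row.of_equiv e.symm Cfsg.Agent.H682.Fpf.row_hn
    · obtain ⟨e⟩ := h
      exact Row.of_equiv e.symm Cfsg.Agent.H682.Fpf.row_th
    · obtain ⟨e⟩ := h
      exact Row.of_equiv e.symm Cfsg.Agent.H80.FpfB.row_b
    · obtain ⟨e⟩ := h
      exact Row.of_equiv e.symm hM

end Cfsg.Agent.H80.Fpf
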